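import Groth.Agent.OortTateLib.Presentation
import Mathlib.RingTheory.Bialgebra.Equiv

/-! Group schemes of order `p` are determined by `(I₁, a, b)`. -/

set_option autoImplicit false

noncomputable section

namespace OortTateLib

open TensorProduct WithConv

universe u

variable {p : ℕ} [Fact p.Prime] {R : Type u} [CommRing R] {u : R} {χ : (ZMod p)ˣ →* Rˣ}
variable {A A' : Type u} [CommRing A] [HopfAlgebra R A] [CommRing A'] [HopfAlgebra R A']

theorem prod_mem_pow {C : Type u} [CommRing C] [Algebra R C] (M : Submodule R C) :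
    ∀ {n : ℕ} (f : Fin n → C), (∀ i, f i ∈ M) → ∏ i, f i ∈ M ^ n
  | 0, f, _ => by rw [Fintype.prod_empty, pow_zero]; exact Submodule.one_le.1 le_rfl
  | n + 1, f, h => by
    rw [Fin.prod_univ_castSucc, pow_succ]
    exact Submodule.mul_mem_mul (prod_mem_pow M _ fun i => h i.castSucc) (h _)

/-- The isomorphism of algebras defined by an isomorphism on `I₁`. -/
def Good.extEquiv {B B' : Type u} [CommRing B] [HopfAlgebra R B] [CommRing B'] [HopfAlgebra R B']
    (G : Good R B u χ) (G' : Good R B' u χ) (θ : OortTate.eigenAug R B p χ 1 ≃ₗ[R] OortTate.eigenAug R B' p χ 1)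
    (hθ : ∀ (f : Fin p → OortTate.eigenAug R B p χ 1) (g : OortTate.eigenAug R B p χ 1),
      (g : B) = ∏ i, (f i : B) → ((θ g : OortTate.eigenAug R B' p χ 1) : B') = ∏ i, ((θ (f i)) : B')) :
    B ≃ₐ[R] B' :=
  have hθ' : ∀ (f : Fin p → OortTate.eigenAug R B' p χ 1) (g : OortTate.eigenAug R B' p χ 1),
      (g : B') = ∏ i, (f i : B') →
        ((OortTate.eigenAug R B p χ 1).subtype ∘ₗ θ.symm.toLinearMap) g =
          ∏ i, ((OortTate.eigenAug R B p χ 1).subtype ∘ₗ θ.symm.toLinearMap) (f i) := fun f g hg => by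
    have hmem : ∏ i, (θ.symm (f i) : B) ∈ OortTate.eigenAug R B p χ 1 := by
      refine eigenAug_p.le (pow_mem_eigen (Fact.out : p.Prime).one_le ?_)
      exact prod_mem_pow _ _ fun i => Subtype.coe_prop _
    have h1 := hθ (fun i => θ.symm (f i)) ⟨_, hmem⟩ rfl
    simp only [LinearEquiv.apply_symm_apply, ← hg] at h1
    have h2 : θ.symm g = ⟨_, hmem⟩ := by rw [LinearEquiv.symm_apply_eq]; exact Subtype.ext h1.symm
    exact congrArg Subtype.val h2
  AlgEquiv.ofAlgHom
    (G.extHom ((OortTate.eigenAug R B' p χ 1).subtype ∘ₗ θ.toLinearMap) hθ)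
    (G'.extHom ((OortTate.eigenAug R B p χ 1).subtype ∘ₗ θ.symm.toLinearMap) hθ')
    (G'.algHom_ext fun a => by
      rw [AlgHom.comp_apply]
      exact (congrArg _ (G'.extHom_apply _ hθ' a)).trans
        ((G.extHom_apply _ _ (θ.symm a)).trans (congrArg Subtype.val (θ.apply_symm_apply a))))
    (G.algHom_ext fun a => by
      rw [AlgHom.comp_apply]
      exact (congrArg _ (G.extHom_apply _ hθ a)).trans
        ((G'.extHom_apply _ _ (θ a)).trans (congrArg Subtype.val (θ.symm_apply_apply a))))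

theorem Good.extEquiv_apply {B B' : Type u} [CommRing B] [HopfAlgebra R B] [CommRing B'] [HopfAlgebra R B']
    (G : Good R B u χ) (G' : Good R B' u χ) (θ : OortTate.eigenAug R B p χ 1 ≃ₗ[R] OortTate.eigenAug R B' p χ 1)
    (hθ : ∀ (f : Fin p → OortTate.eigenAug R B p χ 1) (g : OortTate.eigenAug R B p χ 1),
      (g : B) = ∏ i, (f i : B) → ((θ g : OortTate.eigenAug R B' p χ 1) : B') = ∏ i, ((θ (f i)) : B'))
    (a : OortTate.eigenAug R B p χ 1) : G.extEquiv G' θ hθ (a : B) = θ a :=
  G.extHom_apply _ hθ a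

variable [Coalgebra.IsCocomm R A] [Coalgebra.IsCocomm R A']

/-- `a ⊗ f ↦ h a • f`. -/
def evL (h : CartDual.D R A) : A ⊗[R] CartDual.D R A →ₗ[R] CartDual.D R A :=
  (TensorProduct.lid R (CartDual.D R A)).toLinearMap ∘ₗ h.ofConv.rTensor (CartDual.D R A)

omit [Coalgebra.IsCocomm R A] in
theorem evL_canonical {δ : A ⊗[R] CartDual.D R A} (hδ : pairE R A δ = LinearMap.id) (h : CartDual.D R A) :
    evL h δ = h := by
  have key : ∀ (x : A ⊗[R] CartDual.D R A) (b : A), (evL h x).ofConv b = h.ofConv (pairE R A x b) := fun x b => by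
    induction x using TensorProduct.induction_on with
    | zero => simp
    | tmul a f => simp [evL, mul_comm]
    | add s t hs ht => simp only [map_add, ofConv_add, LinearMap.add_apply, hs, ht]
  exact WithConv.ext (LinearMap.ext fun b => by rw [key, hδ, LinearMap.id_apply])

theorem nonempty_bialgEquiv [Module.Finite R A] [Module.Projective R A] [Module.Finite R A'] [Module.Projective R A']
    (hu : u * ((p - 1 : ℕ) : R) = 1) (hχ : ∀ m : (ZMod p)ˣ, m ≠ 1 → IsUnit ((χ m : R) - 1))
    (hχp : ∀ m : (ZMod p)ˣ, ((χ m : Rˣ) : R) - (((m : ZMod p).val : ℕ) : R) ∈ Ideal.span ({(p : R)} : Set R))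
    (hrk : ∀ q : PrimeSpectrum R, Module.rankAtStalk A q = p)
    (hrk' : ∀ q : PrimeSpectrum R, Module.rankAtStalk A' q = p)
    (θ : OortTate.eigenAug R A p χ 1 ≃ₗ[R] OortTate.eigenAug R A' p χ 1)
    (hθ : ∀ (f : Fin p → OortTate.eigenAug R A p χ 1) (g : OortTate.eigenAug R A p χ 1),
      (g : A) = ∏ i, (f i : A) → ((θ g : OortTate.eigenAug R A' p χ 1) : A') = ∏ i, ((θ (f i)) : A'))
    (hθD : ∀ (φ : Fin p → OortTate.eigenAug R (CartDual.D R A) p χ 1)
      (φ' : Fin p → OortTate.eigenAug R (CartDual.D R A') p χ 1) (ψ : OortTate.eigenAug R (CartDual.D R A) p χ 1)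
      (ψ' : OortTate.eigenAug R (CartDual.D R A') p χ 1),
      (∀ i, ∀ x : OortTate.eigenAug R A p χ 1, CartDual.toDual R A (φ i : CartDual.D R A) (x : A) =
        CartDual.toDual R A' (φ' i : CartDual.D R A') ((θ x : OortTate.eigenAug R A' p χ 1) : A')) →
      (ψ : CartDual.D R A) = ∏ i, (φ i : CartDual.D R A) → (ψ' : CartDual.D R A') = ∏ i, (φ' i : CartDual.D R A') →
      ∀ x : OortTate.eigenAug R A p χ 1, CartDual.toDual R A (ψ : CartDual.D R A) (x : A) =
        CartDual.toDual R A' (ψ' : CartDual.D R A') ((θ x : OortTate.eigenAug R A' p χ 1) : A')) :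
    Nonempty (A ≃ₐc[R] A') := by
  have hp := hp_of_rank hrk
  have hp' := hp_of_rank hrk'
  let Θ : OortTate.eigenAug R (CartDual.D R A) p χ 1 ≃ₗ[R] OortTate.eigenAug R (CartDual.D R A') p χ 1 :=
    resEquiv hu hp 1 ≪≫ₗ θ.symm.dualMap ≪≫ₗ (resEquiv hu hp' 1).symm
  have hΘ : ∀ (f : OortTate.eigenAug R (CartDual.D R A) p χ 1) (b : OortTate.eigenAug R A' p χ 1),
      (Θ f : CartDual.D R A').ofConv (b : A') = (f : CartDual.D R A).ofConv (θ.symm b : A) := fun f b => by
    have h := LinearMap.congr_fun ((resEquiv hu hp' 1).apply_symm_apply (θ.symm.dualMap (resEquiv hu hp 1 f))) b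
    rw [LinearEquiv.dualMap_apply, resEquiv_apply, resEquiv_apply] at h
    exact h
  have hΘp : ∀ (f : Fin p → OortTate.eigenAug R (CartDual.D R A) p χ 1)
      (g : OortTate.eigenAug R (CartDual.D R A) p χ 1),
      (g : CartDual.D R A) = ∏ i, (f i : CartDual.D R A) →
        ((Θ g : OortTate.eigenAug R (CartDual.D R A') p χ 1) : CartDual.D R A') =
          ∏ i, ((Θ (f i)) : CartDual.D R A') := by
    intro f g hg
    have hmem : ∏ i, (Θ (f i) : CartDual.D R A') ∈ OortTate.eigenAug R (CartDual.D R A') p χ 1 := by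
      refine eigenAug_p.le (pow_mem_eigen (Fact.out : p.Prime).one_le ?_)
      exact prod_mem_pow _ _ fun i => Subtype.coe_prop _
    have h1 := hθD f (fun i => Θ (f i)) g ⟨_, hmem⟩ (fun i x => by
      simp only [CartDual.toDual_apply, hΘ, LinearEquiv.symm_apply_apply]) hg rfl
    suffices h : Θ g = ⟨_, hmem⟩ from congrArg Subtype.val h
    refine (resEquiv hu hp' 1).injective (LinearMap.ext fun b => ?_)
    rw [resEquiv_apply, hΘ, resEquiv_apply]
    simpa using h1 (θ.symm b)
  let G := good_of_rank hu hχ hχp hrk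
  let G' := good_of_rank hu hχ hχp hrk'
  let H := good_dual_of_rank hu hχ hχp hrk
  let H' := good_dual_of_rank hu hχ hχp hrk'
  let Φ := G.extEquiv G' θ hθ
  let Ψ := H.extEquiv H' Θ hΘp
  obtain ⟨δ, ϕ, hδ, hϕ⟩ := exists_canonical (R := R) (A := A) hp
  obtain ⟨δ', ϕ', hδ', hϕ'⟩ := exists_canonical (R := R) (A := A') hp'
  obtain ⟨z, hz⟩ := endOf_surjective (χ := χ) hu hp LinearMap.id
  let M : A ⊗[R] CartDual.D R A →ₐ[R] A' ⊗[R] CartDual.D R A' :=
    Algebra.TensorProduct.map Φ.toAlgHom Ψ.toAlgHom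
  have hM : ∀ z, M (imgMap R A χ z) = imgMap R A' χ (TensorProduct.map θ.toLinearMap Θ.toLinearMap z) := fun z => by
    induction z using TensorProduct.induction_on with
    | zero => simp
    | add s t hs ht => simp only [map_add, hs, ht]
    | tmul a f =>
      simp only [M, TensorProduct.map_tmul, Submodule.subtype_apply, Algebra.TensorProduct.map_tmul,
        LinearEquiv.coe_coe]
      show Φ (a : A) ⊗ₜ[R] Ψ (f : CartDual.D R A) = _
      rw [show Φ (a : A) = θ a from G.extEquiv_apply G' θ hθ a,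
        show Ψ (f : CartDual.D R A) = Θ f from H.extEquiv_apply H' Θ hΘp f]
  have hconj : ∀ z b, endOf hu hp' (TensorProduct.map θ.toLinearMap Θ.toLinearMap z) b =
      θ (endOf hu hp z (θ.symm b)) := fun z b => by
    induction z using TensorProduct.induction_on with
    | zero => simp
    | add s t hs ht => simp only [map_add, LinearMap.add_apply, hs, ht]
    | tmul a f => simp only [TensorProduct.map_tmul, LinearEquiv.coe_coe, endOf_tmul, hΘ, map_smul]
  have hy : M (ϕ (OortTate.ygen R p u χ 1)) = ϕ' (OortTate.ygen R p u χ 1) := by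
    rw [← imgMap_eq_phi_ygen hu hp hδ hϕ hz, hM]
    refine imgMap_eq_phi_ygen hu hp' hδ' hϕ' (LinearMap.ext fun b => ?_)
    rw [hconj, hz, LinearMap.id_apply, LinearEquiv.apply_symm_apply, LinearMap.id_apply]
  have hMϕ : M.comp ϕ = ϕ' :=
    AlgHom.ext_of_adjoin_eq_top (ygen_structure hu hχ hχp).2.2.1 (by rintro _ rfl; exact hy)
  have hMδ : M δ = δ' := by rw [← hϕ, ← hϕ', ← hMϕ]; rfl
  -- the two isomorphisms preserve the pairing
  have hpair : ∀ (g : CartDual.D R A) (a : A), (Ψ g).ofConv (Φ a) = g.ofConv a := by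
    intro g a
    let h : CartDual.D R A := toConv ((Ψ g).ofConv ∘ₗ Φ.toLinearMap)
    have key : ∀ x, evL (Ψ g) (M x) = Ψ (evL h x) := fun x => by
      induction x using TensorProduct.induction_on with
      | zero => simp
      | add s t hs ht => simp only [map_add, hs, ht]
      | tmul b f => simp [M, evL, h, map_smul]
    have h1 := key δ
    rw [hMδ, evL_canonical hδ', evL_canonical hδ] at h1
    exact (congrArg (fun w : CartDual.D R A => w.ofConv a) (Ψ.injective h1)).symm
  refine ⟨BialgEquiv.ofAlgEquiv Φ (AlgHom.ext fun a => ?_) (AlgHom.ext fun a => ?_)⟩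
  · have h1 := hpair 1 a
    rw [map_one] at h1
    simpa [LinearMap.convOne_def] using h1
  · simp only [AlgHom.comp_apply, Bialgebra.comulAlgHom_apply]
    rw [← sub_eq_zero]
    refine (Module.forall_dual_apply_eq_zero_iff R _).1 fun F => ?_
    obtain ⟨y, rfl⟩ := (CartDual.ev₂ R A').surjective F
    rw [map_sub, sub_eq_zero]
    induction y using TensorProduct.induction_on with
    | zero => simp
    | add s t hs ht => simp only [map_add, LinearMap.add_apply, hs, ht]
    | tmul f f' =>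
      obtain ⟨g, rfl⟩ := Ψ.surjective f
      obtain ⟨g', rfl⟩ := Ψ.surjective f'
      have h2 : ∀ s, CartDual.ev₂ R A' (Ψ g ⊗ₜ Ψ g') (Algebra.TensorProduct.map Φ.toAlgHom Φ.toAlgHom s) =
          CartDual.ev₂ R A (g ⊗ₜ g') s := fun s => by
        induction s using TensorProduct.induction_on with
        | zero => simp
        | add s t hs ht => simp only [map_add, hs, ht]
        | tmul b c => simp [hpair]
      refine (h2 _).trans ?_
      have h3 := hpair (g * g') a
      rw [map_mul, LinearMap.convMul_apply, LinearMap.convMul_apply] at h3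
      rw [CartDual.ev₂_tmul_eq', CartDual.ev₂_tmul_eq']
      exact h3.symm

end OortTateLib

namespace OortTateLib

open TensorProduct WithConv

universe u

theorem nonempty_bialgEquiv_of_generators {p : ℕ} [Fact p.Prime] {R : Type u} [CommRing R] {u : R}
    {χ : (ZMod p)ˣ →* Rˣ} (hu : u * ((p - 1 : ℕ) : R) = 1) (hχ : ∀ m : (ZMod p)ˣ, m ≠ 1 → IsUnit ((χ m : R) - 1))
    (hχp : ∀ m : (ZMod p)ˣ, ((χ m : Rˣ) : R) - (((m : ZMod p).val : ℕ) : R) ∈ Ideal.span ({(p : R)} : Set R))
    {A A' : Type u} [CommRing A] [HopfAlgebra R A] [Coalgebra.IsCocomm R A] [Module.Finite R A] [Module.Projective R A]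
    [CommRing A'] [HopfAlgebra R A'] [Coalgebra.IsCocomm R A'] [Module.Finite R A'] [Module.Projective R A']
    (hrk : ∀ q : PrimeSpectrum R, Module.rankAtStalk A q = p)
    (hrk' : ∀ q : PrimeSpectrum R, Module.rankAtStalk A' q = p)
    (x : A) (hx : Submodule.span R {x} = OortTate.eigenAug R A p χ 1)
    (ξ : CartDual.D R A) (hξ : Submodule.span R {ξ} = OortTate.eigenAug R (CartDual.D R A) p χ 1)
    (hxξ : CartDual.toDual R A ξ x = 1)
    (x' : A') (hx' : Submodule.span R {x'} = OortTate.eigenAug R A' p χ 1)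
    (ξ' : CartDual.D R A') (hξ' : Submodule.span R {ξ'} = OortTate.eigenAug R (CartDual.D R A') p χ 1)
    (hxξ' : CartDual.toDual R A' ξ' x' = 1)
    (α β α' β' : R) (hα : x ^ p = α • x) (hβ : ξ ^ p = β • ξ) (hα' : x' ^ p = α' • x') (hβ' : ξ' ^ p = β' • ξ')
    (v : Rˣ) (hαv : α' = ((v ^ (p - 1) : Rˣ) : R) * α) (hβv : β' = ((v⁻¹ ^ (p - 1) : Rˣ) : R) * β) :
    Nonempty (A ≃ₐc[R] A') := by
  have hPp : p - 1 + 1 = p := by have := (Fact.out : p.Prime).two_le; omega
  simp only [CartDual.toDual_apply] at hxξ hxξ'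
  have hinj : ∀ (c c' : R), c • x = c' • x → c = c' := fun c c' h => by
    simpa [hxξ] using congrArg ξ.ofConv h
  have hinj' : ∀ (c c' : R), c • x' = c' • x' → c = c' := fun c c' h => by
    simpa [hxξ'] using congrArg ξ'.ofConv h
  have hcoef : ∀ {a : A}, a ∈ OortTate.eigenAug R A p χ 1 → ξ.ofConv a • x = a := fun {a} ha => by
    rw [← hx, Submodule.mem_span_singleton] at ha
    obtain ⟨c, rfl⟩ := ha
    simp [hxξ]
  have hcoef' : ∀ {a : A'}, a ∈ OortTate.eigenAug R A' p χ 1 → ξ'.ofConv a • x' = a := fun {a} ha => by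
    rw [← hx', Submodule.mem_span_singleton] at ha
    obtain ⟨c, rfl⟩ := ha
    simp [hxξ']
  let θ : OortTate.eigenAug R A p χ 1 ≃ₗ[R] OortTate.eigenAug R A' p χ 1 :=
    { toFun := fun a => ⟨(((v⁻¹ : Rˣ) : R) * ξ.ofConv (a : A)) • x',
        hx' ▸ Submodule.smul_mem _ _ (Submodule.mem_span_singleton_self x')⟩
      map_add' := fun a b => Subtype.ext (by simp [mul_add, add_smul])
      map_smul' := fun r a => Subtype.ext (by simp [mul_left_comm, smul_smul])
      invFun := fun b => ⟨((v : R) * ξ'.ofConv (b : A')) • x,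
        hx ▸ Submodule.smul_mem _ _ (Submodule.mem_span_singleton_self x)⟩
      left_inv := fun a => Subtype.ext (by simp [hxξ', hcoef a.2])
      right_inv := fun b => Subtype.ext (by simp [hxξ, hcoef' b.2]) }
  have hθ_apply : ∀ a : OortTate.eigenAug R A p χ 1,
      ((θ a : OortTate.eigenAug R A' p χ 1) : A') = (((v⁻¹ : Rˣ) : R) * ξ.ofConv (a : A)) • x' := fun a => rfl
  refine nonempty_bialgEquiv hu hχ hχp hrk hrk' θ (fun f g hg => ?_) fun φ φ' ψ ψ' hφ hψ hψ' a => ?_
  · have hg' : (g : A) = ((∏ i, ξ.ofConv (f i : A)) * α) • x := by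
      rw [hg, show ∏ i, (f i : A) = ∏ i, ξ.ofConv (f i : A) • x from
        Finset.prod_congr rfl fun i _ => (hcoef (f i).2).symm, Finset.prod_smul, Finset.prod_const,
        Finset.card_univ, Fintype.card_fin, hα, smul_smul]
    simp only [hθ_apply]
    rw [Finset.prod_smul, Finset.prod_const, Finset.card_univ, Fintype.card_fin, hα', smul_smul, hg', map_smul, hxξ]
    congr 1
    have hv : ((v ^ (p - 1) : Rˣ) : R) * ((v⁻¹ : Rˣ) : R) ^ p = ((v⁻¹ : Rˣ) : R) := by
      conv_lhs => rw [show ((v⁻¹ : Rˣ) : R) ^ p = ((v⁻¹ : Rˣ) : R) ^ (p - 1 + 1) by rw [hPp], pow_succ, ← mul_assoc,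
        Units.val_pow_eq_pow_val, ← mul_pow, Units.mul_inv, one_pow, one_mul]
    rw [Finset.prod_mul_distrib, Finset.prod_const, Finset.card_univ, Fintype.card_fin, hαv, smul_eq_mul, mul_one]
    linear_combination (-(α * ∏ i, ξ.ofConv (f i : A))) * hv
  · have hc : ∀ {f : CartDual.D R A}, f ∈ OortTate.eigenAug R (CartDual.D R A) p χ 1 → f = f.ofConv x • ξ :=
      fun {f} hf => by
        rw [← hξ, Submodule.mem_span_singleton] at hf
        obtain ⟨c, rfl⟩ := hf
        simp [hxξ]
    have hc' : ∀ {f : CartDual.D R A'}, f ∈ OortTate.eigenAug R (CartDual.D R A') p χ 1 → f = f.ofConv x' • ξ' :=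
      fun {f} hf => by
        rw [← hξ', Submodule.mem_span_singleton] at hf
        obtain ⟨c, rfl⟩ := hf
        simp [hxξ']
    have hrel : ∀ i, (φ' i : CartDual.D R A').ofConv x' = (v : R) * (φ i : CartDual.D R A).ofConv x := fun i => by
      have h := hφ i ⟨x, hx ▸ Submodule.mem_span_singleton_self x⟩
      simp only [CartDual.toDual_apply, hθ_apply, map_smul, hxξ, mul_one, smul_eq_mul] at h
      rw [h, ← mul_assoc, Units.mul_inv, one_mul]
    have hψ2 : (ψ : CartDual.D R A) = ((∏ i, (φ i : CartDual.D R A).ofConv x) * β) • ξ := by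
      rw [hψ, show ∏ i, (φ i : CartDual.D R A) = ∏ i, (φ i : CartDual.D R A).ofConv x • ξ from
        Finset.prod_congr rfl fun i _ => hc (φ i).2, Finset.prod_smul, Finset.prod_const,
        Finset.card_univ, Fintype.card_fin, hβ, smul_smul]
    have hψ3 : (ψ' : CartDual.D R A') = ((∏ i, (φ' i : CartDual.D R A').ofConv x') * β') • ξ' := by
      rw [hψ', show ∏ i, (φ' i : CartDual.D R A') = ∏ i, (φ' i : CartDual.D R A').ofConv x' • ξ' from
        Finset.prod_congr rfl fun i _ => hc' (φ' i).2, Finset.prod_smul, Finset.prod_const,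
        Finset.card_univ, Fintype.card_fin, hβ', smul_smul]
    simp only [CartDual.toDual_apply, hθ_apply, hψ2, hψ3, ofConv_smul, LinearMap.smul_apply, map_smul, hxξ',
      smul_eq_mul, hrel, Finset.prod_mul_distrib, Finset.prod_const, Finset.card_univ, Fintype.card_fin, hβv]
    have hv : ((v⁻¹ ^ (p - 1) : Rˣ) : R) * (v : R) ^ p * ((v⁻¹ : Rˣ) : R) = 1 := by
      rw [show (v : R) ^ p = (v : R) ^ (p - 1 + 1) by rw [hPp], pow_succ, ← mul_assoc, Units.val_pow_eq_pow_val,
        ← mul_pow, Units.inv_mul, one_pow, one_mul, Units.mul_inv]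
    linear_combination (-(β * (∏ i, (φ i : CartDual.D R A).ofConv x) * ξ.ofConv (a : A))) * hv

end OortTateLib
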