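import Groth.Prelude.Def_W4c5ffgsreadingcourseOT
import Groth.Prelude.Def_CartDual
import Mathlib.Algebra.Ring.GeomSum
import Mathlib.RingTheory.IntegralDomain
import Mathlib.FieldTheory.Finite.Basic

/-! Eigenspaces of the power maps on the augmentation ideal. -/

set_option autoImplicit false

namespace OortTateLib

open scoped TensorProduct
open WithConv

universe u v

variable {p : ℕ} [Fact p.Prime] {R : Type u} [CommRing R] {u : R} {χ : (ZMod p)ˣ →* Rˣ}

section char

variable (hu : u * ((p - 1 : ℕ) : R) = 1) (hχ : ∀ m : (ZMod p)ˣ, m ≠ 1 → IsUnit ((χ m : R) - 1))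

include hχ in
theorem geom_eq_zero {x : (ZMod p)ˣ} (hx : x ≠ 1) : ∑ i : Fin (p - 1), (χ x : R) ^ (i : ℕ) = 0 := by
  rw [Fin.sum_univ_eq_sum_range fun i => (χ x : R) ^ i]
  refine (hχ x hx).mul_left_eq_zero.1 ?_
  rw [geom_sum_mul, ← Units.val_pow_eq_pow_val, ← map_pow, ← ZMod.card_units p, pow_card_eq_one, map_one,
    Units.val_one, sub_self]

include hχ in
theorem sum_units_eq_zero {k : ℕ} (hk : ¬ (p - 1) ∣ k) : ∑ m : (ZMod p)ˣ, (χ m : R) ^ k = 0 := by
  obtain ⟨g, hg⟩ : ∃ g : (ZMod p)ˣ, g ^ k ≠ 1 := by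
    by_contra h
    push Not at h
    obtain ⟨g, hg⟩ := IsCyclic.exists_ofOrder_eq_natCard (α := (ZMod p)ˣ)
    refine hk ?_
    rw [← ZMod.card_units p, ← Nat.card_eq_fintype_card, ← hg]
    exact orderOf_dvd_of_pow_eq_one (h g)
  have h1 : ∑ m : (ZMod p)ˣ, (χ m : R) ^ k = (χ (g ^ k) : R) * ∑ m : (ZMod p)ˣ, (χ m : R) ^ k := by
    rw [Finset.mul_sum]
    refine (Fintype.sum_equiv (Equiv.mulLeft g) _ _ fun m => ?_).symm
    simp [map_pow, mul_pow]
  have h2 : ((χ (g ^ k) : R) - 1) * ∑ m : (ZMod p)ˣ, (χ m : R) ^ k = 0 := by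
    rw [sub_mul, one_mul, ← h1, sub_self]
  exact (hχ _ hg).mul_right_eq_zero.1 h2

include hu in
theorem u_card : u * (Fintype.card (ZMod p)ˣ : R) = 1 := by rwa [ZMod.card_units]

theorem χ_inv_mul (m : (ZMod p)ˣ) (i : ℕ) : (χ m⁻¹ : R) ^ i * (χ m : R) ^ i = 1 := by
  rw [← mul_pow, ← Units.val_mul, ← map_mul, inv_mul_cancel, map_one, Units.val_one, one_pow]

include hu hχ in
theorem u_sum_inv_mul {i j : Fin (p - 1)} :
    u * ∑ m : (ZMod p)ˣ, (χ m⁻¹ : R) ^ (i : ℕ) * (χ m : R) ^ (j : ℕ) = if i = j then 1 else 0 := by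
  split_ifs with h
  · subst h
    simp only [χ_inv_mul, Finset.sum_const, Finset.card_univ, nsmul_eq_mul, mul_one]
    exact u_card hu
  · have hterm : ∀ m : (ZMod p)ˣ, (χ m⁻¹ : R) ^ (i : ℕ) * (χ m : R) ^ (j : ℕ) = (χ m : R) ^ ((j : ℕ) + (p - 1 - i)) := by
      intro m
      have hp1 : (χ m : R) ^ (p - 1) = 1 := by
        rw [← Units.val_pow_eq_pow_val, ← map_pow, ← ZMod.card_units p, pow_card_eq_one, map_one, Units.val_one]
      have hi : (χ m⁻¹ : R) ^ (i : ℕ) = (χ m : R) ^ (p - 1 - i) := by
        calc (χ m⁻¹ : R) ^ (i : ℕ) = (χ m⁻¹ : R) ^ (i : ℕ) * (χ m : R) ^ (p - 1) := by rw [hp1, mul_one]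
          _ = ((χ m⁻¹ : R) ^ (i : ℕ) * (χ m : R) ^ (i : ℕ)) * (χ m : R) ^ (p - 1 - i) := by
              rw [mul_assoc, ← pow_add, Nat.add_sub_cancel' (le_of_lt i.2)]
          _ = _ := by rw [χ_inv_mul, one_mul]
      rw [hi, ← pow_add, Nat.add_comm]
    simp only [hterm]
    rw [sum_units_eq_zero hχ, mul_zero]
    intro hd
    obtain ⟨c, hc⟩ := hd
    have hi := i.2
    have hj := j.2
    rcases c with - | - | c
    · omega
    · exact h (Fin.ext (by omega))
    · rw [Nat.mul_add, Nat.mul_add] at hc; omega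

end char

variable {A : Type u} [CommRing A] [HopfAlgebra R A]

theorem toConv_powConv (n : ℕ) : toConv (SGA3b.powConv R A n) = (toConv (AlgHom.id R A)) ^ n := rfl

theorem comp_pow (h : A →ₐ[R] A) (f : WithConv (A →ₐ[R] A)) :
    ∀ k : ℕ, toConv (h.comp (f ^ k).ofConv) = (toConv (h.comp f.ofConv)) ^ k := by
  intro k
  induction k with
  | zero =>
    rw [pow_zero, pow_zero, AlgHom.convOne_def, ofConv_toConv]
    congr 1
    exact AlgHom.ext fun a => h.commutes _
  | succ k IH => rw [pow_succ, pow_succ, ← IH, AlgHom.comp_convMul_distrib, toConv_ofConv]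

theorem powConv_comp (m n : ℕ) :
    (SGA3b.powConv R A m).comp (SGA3b.powConv R A n) = SGA3b.powConv R A (m * n) := by
  apply toConv_injective
  rw [toConv_powConv, pow_mul, ← toConv_powConv m, SGA3b.powConv, SGA3b.powConv, comp_pow]
  simp

theorem powConv_one : SGA3b.powConv R A 1 = AlgHom.id R A := by
  simp [SGA3b.powConv]

theorem lift_eq_mul' {B C : Type*} [CommRing B] [Algebra R B] [CommRing C] [Algebra R C] (f g : B →ₐ[R] C) {hc}
    (t : B ⊗[R] B) : Algebra.TensorProduct.lift f g hc t =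
      LinearMap.mul' R C (TensorProduct.map f.toLinearMap g.toLinearMap t) := by
  induction t using TensorProduct.induction_on with
  | zero => simp
  | tmul x y => simp
  | add s t hs ht => simp only [map_add, hs, ht]

theorem counit_powConv (n : ℕ) (a : A) :
    Bialgebra.counitAlgHom R A (SGA3b.powConv R A n a) = Bialgebra.counitAlgHom R A a := by
  induction n generalizing a with
  | zero =>
    simp [SGA3b.powConv, AlgHom.convOne_def]
  | succ n IH =>
    rw [SGA3b.powConv, pow_succ, AlgHom.convMul_apply, lift_eq_mul', ofConv_toConv]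
    let ε := Bialgebra.counitAlgHom R A
    let f := ((toConv (AlgHom.id R A)) ^ n).ofConv
    have h : ∀ t : A ⊗[R] A, ε (LinearMap.mul' R A (TensorProduct.map f.toLinearMap (AlgHom.id R A).toLinearMap t)) =
        TensorProduct.lid R R (TensorProduct.map ε.toLinearMap ε.toLinearMap t) := fun t => by
      induction t using TensorProduct.induction_on with
      | zero => simp
      | tmul x y =>
        simp only [TensorProduct.map_tmul, LinearMap.mul'_apply, map_mul, TensorProduct.lid_tmul, smul_eq_mul]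
        show ε (f x) * ε y = ε x * ε y
        rw [show ε (f x) = ε x from IH x]
      | add s t hs ht => simp only [map_add, hs, ht]
    refine (h _).trans ?_
    have h2 := congrArg ((TensorProduct.lid R R).toLinearMap ∘ₗ TensorProduct.map LinearMap.id ε.toLinearMap)
      (Coalgebra.rTensor_counit_comul (R := R) a)
    rw [LinearMap.comp_apply, ← LinearMap.comp_apply (TensorProduct.map LinearMap.id ε.toLinearMap), LinearMap.rTensor,
      ← TensorProduct.map_comp, LinearMap.id_comp, LinearMap.comp_id] at h2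
    exact (show TensorProduct.lid R R (TensorProduct.map ε.toLinearMap ε.toLinearMap (Coalgebra.comul a)) = ε a by simpa [ε] using h2)

theorem powConv_congr (hp : (toConv (AlgHom.id R A)) ^ p = 1) {m n : ℕ} (h : (m : ZMod p) = n) :
    SGA3b.powConv R A m = SGA3b.powConv R A n := by
  have key : ∀ m, SGA3b.powConv R A m = SGA3b.powConv R A (m % p) := fun m => by
    show ((toConv (AlgHom.id R A)) ^ m).ofConv = ((toConv (AlgHom.id R A)) ^ (m % p)).ofConv
    conv_lhs => rw [← Nat.mod_add_div m p, pow_add, pow_mul, hp, one_pow, mul_one]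
  rw [key m, key n, (ZMod.natCast_eq_natCast_iff' m n p).1 h]

theorem powConv_units_mul (hp : (toConv (AlgHom.id R A)) ^ p = 1) (m n : (ZMod p)ˣ) (a : A) :
    SGA3b.powConv R A (m : ZMod p).val (SGA3b.powConv R A (n : ZMod p).val a) =
      SGA3b.powConv R A ((m * n : (ZMod p)ˣ) : ZMod p).val a := by
  rw [← AlgHom.comp_apply, powConv_comp]
  exact DFunLike.congr_fun (powConv_congr hp (by
    rw [Nat.cast_mul, ZMod.natCast_zmod_val, ZMod.natCast_zmod_val, ZMod.natCast_zmod_val, Units.val_mul])) a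

theorem powConv_units_one (a : A) : SGA3b.powConv R A ((1 : (ZMod p)ˣ) : ZMod p).val a = a := by
  rw [Units.val_one, ZMod.val_one, powConv_one, AlgHom.id_apply]

theorem mem_eigenAug {i : ℕ} {f : A} :
    f ∈ OortTate.eigenAug R A p χ i ↔ Bialgebra.counitAlgHom R A f = 0 ∧
      ∀ m : (ZMod p)ˣ, SGA3b.powConv R A (m : ZMod p).val f = (χ m : R) ^ i • f := by
  simp [OortTate.eigenAug, Submodule.mem_iInf, Module.End.mem_eigenspace_iff]

theorem proj_apply (i : ℕ) (f : A) :
    OortTate.proj R A p u χ i f = u • ∑ m : (ZMod p)ˣ, (χ m⁻¹ : R) ^ i • SGA3b.powConv R A (m : ZMod p).val f := by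
  simp [OortTate.proj, LinearMap.sum_apply]

theorem proj_powConv (hp : (toConv (AlgHom.id R A)) ^ p = 1) (i : ℕ) (n : (ZMod p)ˣ) (f : A) :
    OortTate.proj R A p u χ i (SGA3b.powConv R A (n : ZMod p).val f) =
      (χ n : R) ^ i • OortTate.proj R A p u χ i f := by
  rw [proj_apply, proj_apply, smul_comm _ u]
  congr 1
  rw [Finset.smul_sum]
  refine Fintype.sum_equiv (Equiv.mulRight n) _ _ fun m => ?_
  rw [powConv_units_mul hp, smul_smul, Equiv.coe_mulRight]
  congr 1
  rw [mul_inv_rev, map_mul, Units.val_mul, mul_pow, ← mul_assoc, mul_comm ((χ n : R) ^ i), χ_inv_mul, one_mul]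

theorem powConv_proj (hp : (toConv (AlgHom.id R A)) ^ p = 1) (i : ℕ) (n : (ZMod p)ˣ) (f : A) :
    SGA3b.powConv R A (n : ZMod p).val (OortTate.proj R A p u χ i f) =
      (χ n : R) ^ i • OortTate.proj R A p u χ i f := by
  rw [← proj_powConv hp, proj_apply, proj_apply, map_smul, map_sum]
  simp only [map_smul, powConv_units_mul hp, mul_comm n]

theorem counit_proj {f : A} (hf : Bialgebra.counitAlgHom R A f = 0) (i : ℕ) :
    Bialgebra.counitAlgHom R A (OortTate.proj R A p u χ i f) = 0 := by
  simp only [proj_apply, map_smul, map_sum, counit_powConv, hf, smul_zero, Finset.sum_const_zero]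

theorem proj_mem (hp : (toConv (AlgHom.id R A)) ^ p = 1) {f : A} (hf : Bialgebra.counitAlgHom R A f = 0) (i : ℕ) :
    OortTate.proj R A p u χ i f ∈ OortTate.eigenAug R A p χ i :=
  mem_eigenAug.2 ⟨counit_proj hf i, fun m => powConv_proj hp i m f⟩

theorem proj_eq_self (hu : u * ((p - 1 : ℕ) : R) = 1) {i : ℕ} {f : A} (hf : f ∈ OortTate.eigenAug R A p χ i) :
    OortTate.proj R A p u χ i f = f := by
  rw [proj_apply]
  simp only [(mem_eigenAug.1 hf).2, smul_smul, χ_inv_mul, one_smul, Finset.sum_const, Finset.card_univ,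
    ← Nat.cast_smul_eq_nsmul R]
  rw [u_card hu, one_smul]

theorem proj_of_mem (hu : u * ((p - 1 : ℕ) : R) = 1) (hχ : ∀ m : (ZMod p)ˣ, m ≠ 1 → IsUnit ((χ m : R) - 1))
    {i j : Fin (p - 1)} {f : A} (hf : f ∈ OortTate.eigenAug R A p χ (j : ℕ)) :
    OortTate.proj R A p u χ (i : ℕ) f = if i = j then f else 0 := by
  rw [proj_apply]
  simp only [(mem_eigenAug.1 hf).2, smul_smul, ← Finset.sum_smul]
  rw [u_sum_inv_mul hu hχ]
  split_ifs <;> simp

theorem sum_proj (hu : u * ((p - 1 : ℕ) : R) = 1) (hχ : ∀ m : (ZMod p)ˣ, m ≠ 1 → IsUnit ((χ m : R) - 1))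
    (f : A) : ∑ i : Fin (p - 1), OortTate.proj R A p u χ (i : ℕ) f = f := by
  simp only [proj_apply, ← Finset.smul_sum]
  rw [Finset.sum_comm]
  simp only [← Finset.sum_smul]
  rw [Finset.sum_eq_single (1 : (ZMod p)ˣ)]
  · rw [inv_one, map_one, powConv_units_one]
    simp only [Units.val_one, one_pow, Finset.sum_const, Finset.card_univ, Fintype.card_fin, nsmul_eq_mul, mul_one,
      smul_smul, hu, one_smul]
  · intro m _ hm
    rw [geom_eq_zero hχ (inv_ne_one.2 hm), zero_smul]
  · simp

theorem decomposition (hu : u * ((p - 1 : ℕ) : R) = 1) (hχ : ∀ m : (ZMod p)ˣ, m ≠ 1 → IsUnit ((χ m : R) - 1))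
    (hp : (toConv (AlgHom.id R A)) ^ p = 1) :
    iSupIndep (fun i : Fin (p - 1) => OortTate.eigenAug R A p χ (i : ℕ)) ∧
      (⨆ i : Fin (p - 1), OortTate.eigenAug R A p χ (i : ℕ)) =
        LinearMap.ker (Bialgebra.counitAlgHom R A).toLinearMap ∧
      ∀ i : Fin (p - 1), OortTate.eigenAug R A p χ (i : ℕ) =
        Submodule.map (OortTate.proj R A p u χ (i : ℕ))
          (LinearMap.ker (Bialgebra.counitAlgHom R A).toLinearMap) := by
  refine ⟨?_, le_antisymm ?_ ?_, fun i => le_antisymm ?_ ?_⟩
  · refine fun i => Submodule.disjoint_def.2 fun x hx hxs => ?_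
    have h1 : OortTate.proj R A p u χ (i : ℕ) x = x := by
      simpa using proj_of_mem hu hχ (i := i) hx
    have h2 : (⨆ j, ⨆ _ : j ≠ i, OortTate.eigenAug R A p χ (j : ℕ)) ≤ LinearMap.ker (OortTate.proj R A p u χ (i : ℕ)) :=
      iSup₂_le fun j hj y hy => by
        rw [LinearMap.mem_ker, proj_of_mem hu hχ hy, if_neg (Ne.symm hj)]
    exact h1.symm.trans (LinearMap.mem_ker.1 (h2 hxs))
  · exact iSup_le fun i f hf => (mem_eigenAug.1 hf).1
  · intro f hf
    rw [← sum_proj hu hχ f]
    exact Submodule.sum_mem _ fun i _ => Submodule.mem_iSup_of_mem i (proj_mem hp hf _)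
  · intro f hf
    exact ⟨f, (mem_eigenAug.1 hf).1, proj_eq_self hu hf⟩
  · rintro _ ⟨f, hf, rfl⟩
    exact proj_mem hp hf _

theorem dual_restrict_ker_bijective {A : Type v} [CommRing A] [HopfAlgebra R A] [Module.Finite R A]
    [Module.Projective R A] :
    Function.Bijective (fun f : LinearMap.ker (Bialgebra.counitAlgHom R (CartDual.D R A)).toLinearMap =>
      ((CartDual.toDual R A) (f : CartDual.D R A)).comp
        (LinearMap.ker (Bialgebra.counitAlgHom R A).toLinearMap).subtype) := by
  let ε := Bialgebra.counitAlgHom R A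
  let π : A →ₗ[R] LinearMap.ker ε.toLinearMap :=
    (LinearMap.id - ε.toLinearMap.smulRight (1 : A)).codRestrict _ fun a => by simp [ε]
  have hπ : ∀ a : LinearMap.ker ε.toLinearMap, π a = a := fun a => Subtype.ext (by
    have h := a.2
    simp only [LinearMap.mem_ker, AlgHom.toLinearMap_apply] at h
    show (a : A) - ε (a : A) • (1 : A) = a
    rw [show ε (a : A) = 0 from h, zero_smul, sub_zero])
  constructor
  · rintro ⟨f, hf⟩ ⟨g, hg⟩ h
    refine Subtype.ext (WithConv.ext (LinearMap.ext fun a => ?_))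
    have h1 := LinearMap.congr_fun h (π a)
    simp only [LinearMap.comp_apply, Submodule.subtype_apply, CartDual.toDual_apply] at h1
    have hf' : f.ofConv 1 = 0 := hf
    have hg' : g.ofConv 1 = 0 := hg
    have h2 : f.ofConv (a - ε a • 1) = g.ofConv (a - ε a • 1) := h1
    simpa [hf', hg'] using h2
  · intro g
    refine ⟨⟨toConv (g ∘ₗ π), ?_⟩, LinearMap.ext fun a => ?_⟩
    · show g (π 1) = 0
      rw [show π 1 = 0 from Subtype.ext (show (1 : A) - ε 1 • (1 : A) = 0 by rw [map_one, one_smul, sub_self]), map_zero]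
    · exact congrArg g (hπ a)

theorem dual_powConv [Coalgebra.IsCocomm R A] [Module.Finite R A] [Module.Projective R A] (n : ℕ)
    (x : CartDual.D R A) (a : A) :
    (SGA3b.powConv R (CartDual.D R A) n x).ofConv a = x.ofConv (SGA3b.powConv R A n a) := by
  induction n generalizing x a with
  | zero =>
    simp [SGA3b.powConv, AlgHom.convOne_def, Algebra.algebraMap_eq_smul_one, mul_comm]
  | succ n IH =>
    rw [SGA3b.powConv, SGA3b.powConv, pow_succ, pow_succ, AlgHom.convMul_apply, AlgHom.convMul_apply,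
      lift_eq_mul', lift_eq_mul', ofConv_toConv, ofConv_toConv, ← SGA3b.powConv, ← SGA3b.powConv]
    have hR : ∀ t : A ⊗[R] A, x.ofConv (LinearMap.mul' R A (TensorProduct.map
        (SGA3b.powConv R A n).toLinearMap (AlgHom.id R A).toLinearMap t)) =
        CartDual.ev₂ R A (Coalgebra.comul (R := R) x) (TensorProduct.map
        (SGA3b.powConv R A n).toLinearMap (AlgHom.id R A).toLinearMap t) := fun t => by
      rw [CartDual.comul_def, CartDual.ev₂_comul]; rfl
    refine Eq.trans ?_ (hR _).symm
    have hL : ∀ (y : CartDual.D R A ⊗[R] CartDual.D R A) (t : A ⊗[R] A),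
        (LinearMap.mul' R R) (TensorProduct.map LinearMap.id LinearMap.id
          (CartDual.ev₂ R A (TensorProduct.map (SGA3b.powConv R (CartDual.D R A) n).toLinearMap
            (AlgHom.id R (CartDual.D R A)).toLinearMap y) t ⊗ₜ[R] (1 : R))) =
        CartDual.ev₂ R A y (TensorProduct.map (SGA3b.powConv R A n).toLinearMap (AlgHom.id R A).toLinearMap t) := by
      intro y t
      simp only [TensorProduct.map_tmul, LinearMap.mul'_apply, LinearMap.id_apply, mul_one]
      induction y using TensorProduct.induction_on with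
      | zero => simp
      | tmul f g =>
        induction t using TensorProduct.induction_on with
        | zero => simp
        | tmul b c =>
          simp only [TensorProduct.map_tmul, CartDual.ev₂_tmul, CartDual.coe_apply, AlgHom.toLinearMap_apply,
            AlgHom.id_apply, IH]
        | add s t hs ht => simp only [map_add, hs, ht]
      | add s t hs ht => simp only [map_add, LinearMap.add_apply, hs, ht]
    rw [← hL]
    simp only [TensorProduct.map_tmul, LinearMap.mul'_apply, LinearMap.id_apply, mul_one]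
    generalize Coalgebra.comul (R := R) x = y
    induction y using TensorProduct.induction_on with
    | zero => simp
    | add s t hs ht => simp only [map_add, WithConv.ofConv_add, LinearMap.add_apply, hs, ht]
    | tmul f g =>
      simp only [TensorProduct.map_tmul, LinearMap.mul'_apply]
      rw [LinearMap.convMul_apply, CartDual.ev₂_tmul_eq]
      generalize Coalgebra.comul (R := R) a = t
      induction t using TensorProduct.induction_on with
      | zero => simp
      | tmul b c => simp
      | add s t hs ht => simp only [map_add, hs, ht]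

theorem dual_restrict_eigenAug_bijective [Coalgebra.IsCocomm R A] [Module.Finite R A] [Module.Projective R A]
    (hu : u * ((p - 1 : ℕ) : R) = 1) (hp : (toConv (AlgHom.id R A)) ^ p = 1) (i : ℕ) :
    Function.Bijective (fun f : OortTate.eigenAug R (CartDual.D R A) p χ i =>
      ((CartDual.toDual R A) (f : CartDual.D R A)).comp (OortTate.eigenAug R A p χ i).subtype) := by
  let ε := Bialgebra.counitAlgHom R A
  let π : A →ₗ[R] A := LinearMap.id - ε.toLinearMap.smulRight (1 : A)
  have hπ : ∀ a, ε (π a) = 0 := fun a => by simp [π, ε]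
  have hπm : ∀ (m : (ZMod p)ˣ) a, π (SGA3b.powConv R A (m : ZMod p).val a) = SGA3b.powConv R A (m : ZMod p).val (π a) :=
    fun m a => by
      simp only [π, LinearMap.sub_apply, LinearMap.id_apply, LinearMap.smulRight_apply, AlgHom.toLinearMap_apply,
        map_sub, map_smul, map_one, ε, counit_powConv]
  let q : A →ₗ[R] OortTate.eigenAug R A p χ i :=
    ((OortTate.proj R A p u χ i) ∘ₗ π).codRestrict _ fun a => proj_mem hp (hπ a) i
  have hfix : ∀ (f : CartDual.D R A), f ∈ OortTate.eigenAug R (CartDual.D R A) p χ i →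
      ∀ a, f.ofConv (OortTate.proj R A p u χ i (π a)) = f.ofConv a := by
    intro f hf a
    obtain ⟨h0, hm⟩ := mem_eigenAug.1 hf
    have h1 : f.ofConv 1 = 0 := h0
    have h2 : ∀ m : (ZMod p)ˣ, f.ofConv (SGA3b.powConv R A (m : ZMod p).val (π a)) = (χ m : R) ^ i * f.ofConv (π a) :=
      fun m => by rw [← dual_powConv, hm]; rfl
    rw [proj_apply, map_smul, map_sum]
    simp only [map_smul, h2, smul_eq_mul, ← mul_assoc, χ_inv_mul, one_mul, Finset.sum_const, Finset.card_univ,
      nsmul_eq_mul]
    rw [u_card hu, one_mul]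
    simp [π, h1]
  constructor
  · rintro ⟨f, hf⟩ ⟨g, hg⟩ h
    refine Subtype.ext (WithConv.ext (LinearMap.ext fun a => ?_))
    have h1 := LinearMap.congr_fun h (q a)
    simp only [LinearMap.comp_apply, Submodule.subtype_apply, CartDual.toDual_apply] at h1
    show f.ofConv a = g.ofConv a
    rw [← hfix f hf a, ← hfix g hg a]
    exact h1
  · intro g
    refine ⟨⟨toConv (g ∘ₗ q), mem_eigenAug.2 ⟨?_, fun m => ?_⟩⟩, LinearMap.ext fun a => ?_⟩
    · show g (q 1) = 0
      rw [show q 1 = 0 from Subtype.ext (by simp [q, π, ε]), map_zero]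
    · refine WithConv.ext (LinearMap.ext fun a => ?_)
      rw [dual_powConv]
      show g (q (SGA3b.powConv R A (m : ZMod p).val a)) = (χ m : R) ^ i * g (q a)
      rw [show q (SGA3b.powConv R A (m : ZMod p).val a) = (χ m : R) ^ i • q a from Subtype.ext (by
        simp only [q, LinearMap.codRestrict_apply, LinearMap.comp_apply, Submodule.coe_smul, hπm, proj_powConv hp]),
        map_smul, smul_eq_mul]
    · show g (q (a : A)) = g a
      congr 1
      refine Subtype.ext ?_
      have hε : ε (a : A) = 0 := (mem_eigenAug.1 a.2).1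
      simp only [q, π, LinearMap.codRestrict_apply, LinearMap.comp_apply, LinearMap.sub_apply, LinearMap.id_apply,
        LinearMap.smulRight_apply, AlgHom.toLinearMap_apply, hε, zero_smul, sub_zero]
      exact proj_eq_self hu a.2

end OortTateLib
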