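import Mathlib.RingTheory.HopfAlgebra.Basic
import Mathlib.RingTheory.Bialgebra.Equiv
import Mathlib.RingTheory.TensorProduct.Maps
import Mathlib.Tactic.LinearCombination
import Mathlib.Tactic.Module

/-! Hopf algebras with free rank one augmentation ideal. -/

set_option autoImplicit false

namespace OortTateLib

open scoped TensorProduct

universe u v

variable {R : Type u} [CommRing R] {A : Type v} [CommRing A] [HopfAlgebra R A] {x : A}

theorem exists_coord (hx : Bialgebra.counitAlgHom R A x = 0)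
    (hgen : ∀ f : A, Bialgebra.counitAlgHom R A f = 0 → ∃ r : R, f = r • x)
    (hfree : ∀ r : R, r • x = 0 → r = 0) :
    ∃ φ : A →ₗ[R] R, φ x = 1 ∧ φ 1 = 0 ∧ ∀ f : A, f = Bialgebra.counitAlgHom R A f • 1 + φ f • x := by
  set ε := Bialgebra.counitAlgHom R A with hε
  have hex : ∀ f : A, ∃ r : R, f - ε f • 1 = r • x := fun f => hgen _ (by simp [ε, map_sub, map_smul])
  choose φ hφ using hex
  have huniq : ∀ r s : R, r • x = s • x → r = s := fun r s h => sub_eq_zero.1 (hfree _ (by rw [sub_smul, h, sub_self]))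
  let L : A →ₗ[R] R :=
    { toFun := φ
      map_add' := fun f g => huniq _ _ (by rw [add_smul, ← hφ, ← hφ, ← hφ, map_add, add_smul]; abel)
      map_smul' := fun r f => huniq _ _ (by
        rw [RingHom.id_apply, smul_eq_mul, mul_smul, ← hφ, ← hφ, map_smul, smul_eq_mul, mul_smul, smul_sub]) }
  refine ⟨L, huniq _ _ ?_, huniq _ _ ?_, fun f => ?_⟩
  · show φ x • x = _
    rw [← hφ, hx, zero_smul, sub_zero, one_smul]
  · show φ 1 • x = _
    rw [← hφ, map_one, one_smul, sub_self, zero_smul]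
  · show f = ε f • 1 + φ f • x
    rw [← hφ, add_sub_cancel]

variable (x) in
/-- coordinates in the tensor square -/
theorem tensor_decomp {φ : A →ₗ[R] R} (hφ : ∀ f : A, f = Bialgebra.counitAlgHom R A f • 1 + φ f • x)
    (t : A ⊗[R] A) :
    ∃ α β γ δ : R, t = α • ((1 : A) ⊗ₜ[R] (1 : A)) + β • (x ⊗ₜ[R] (1 : A)) + γ • ((1 : A) ⊗ₜ[R] x) + δ • (x ⊗ₜ[R] x) := by
  induction t using TensorProduct.induction_on with
  | zero => exact ⟨0, 0, 0, 0, by simp⟩
  | tmul f g =>
    refine ⟨Bialgebra.counitAlgHom R A f * Bialgebra.counitAlgHom R A g, φ f * Bialgebra.counitAlgHom R A g,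
      Bialgebra.counitAlgHom R A f * φ g, φ f * φ g, ?_⟩
    conv_lhs => rw [hφ f, hφ g]
    simp only [TensorProduct.add_tmul, TensorProduct.tmul_add, TensorProduct.tmul_smul, ← TensorProduct.smul_tmul']
    module
  | add s t hs ht =>
    obtain ⟨α, β, γ, δ, rfl⟩ := hs
    obtain ⟨α', β', γ', δ', rfl⟩ := ht
    exact ⟨α + α', β + β', γ + γ', δ + δ', by simp only [add_smul]; abel⟩

/-- functional on the tensor square -/
noncomputable def pairF (f g : A →ₗ[R] R) : A ⊗[R] A →ₗ[R] R :=
  (TensorProduct.lid R R).toLinearMap ∘ₗ TensorProduct.map f g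

theorem pairF_tmul (f g : A →ₗ[R] R) (a b : A) : pairF f g (a ⊗ₜ[R] b) = f a * g b := by
  simp [pairF]

theorem exists_normal_form (hx : Bialgebra.counitAlgHom R A x = 0)
    (hgen : ∀ f : A, Bialgebra.counitAlgHom R A f = 0 → ∃ r : R, f = r • x)
    (hfree : ∀ r : R, r • x = 0 → r = 0) :
    ∃ a b : R, x * x = a • x ∧
      Bialgebra.comulAlgHom R A x = x ⊗ₜ[R] 1 + 1 ⊗ₜ[R] x + b • (x ⊗ₜ[R] x) ∧ a * b = -2 := by
  obtain ⟨φ, hφx, hφ1, hφ⟩ := exists_coord hx hgen hfree
  let e : A →ₗ[R] R := (Bialgebra.counitAlgHom R A).toLinearMap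
  obtain ⟨a, ha⟩ := hgen (x * x) (by rw [map_mul, hx, zero_mul])
  obtain ⟨α, β, γ, δ, hΔ⟩ := tensor_decomp x hφ (Bialgebra.comulAlgHom R A x)
  have he1 : e 1 = 1 := map_one (Bialgebra.counitAlgHom R A)
  have hex : e x = 0 := hx
  have hl : ∀ t : A, LinearMap.rTensor A (Coalgebra.counit (R := R)) (Coalgebra.comul t) = (1 : R) ⊗ₜ[R] t :=
    fun t => Coalgebra.rTensor_counit_comul t
  have hr : ∀ t : A, LinearMap.lTensor A (Coalgebra.counit (R := R)) (Coalgebra.comul t) = t ⊗ₜ[R] (1 : R) :=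
    fun t => Coalgebra.lTensor_counit_comul t
  have key1 : ∀ (g : A →ₗ[R] R), pairF e g (Bialgebra.comulAlgHom R A x) = g x := fun g => by
    have h := congrArg ((TensorProduct.lid R R).toLinearMap ∘ₗ TensorProduct.map LinearMap.id g) (hl x)
    rw [LinearMap.comp_apply, ← LinearMap.comp_apply (TensorProduct.map LinearMap.id g), LinearMap.rTensor,
      ← TensorProduct.map_comp, LinearMap.id_comp, LinearMap.comp_id] at h
    simpa [pairF, e] using h
  have key2 : ∀ (g : A →ₗ[R] R), pairF g e (Bialgebra.comulAlgHom R A x) = g x := fun g => by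
    have h := congrArg ((TensorProduct.lid R R).toLinearMap ∘ₗ TensorProduct.map g LinearMap.id) (hr x)
    rw [LinearMap.comp_apply, ← LinearMap.comp_apply (TensorProduct.map g LinearMap.id), LinearMap.lTensor,
      ← TensorProduct.map_comp, LinearMap.id_comp, LinearMap.comp_id] at h
    simpa [pairF, e] using h
  have hα : α = 0 := by
    have h := key1 e
    rw [hΔ] at h
    simpa [pairF_tmul, he1, hex] using h
  have hβ : β = 1 := by
    have h := key2 φ
    rw [hΔ] at h
    simpa [pairF_tmul, he1, hex, hφx, hφ1] using h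
  have hγ : γ = 1 := by
    have h := key1 φ
    rw [hΔ] at h
    simpa [pairF_tmul, he1, hex, hφx, hφ1] using h
  subst hα hβ hγ
  have hΔ' : Bialgebra.comulAlgHom R A x = x ⊗ₜ[R] (1 : A) + (1 : A) ⊗ₜ[R] x + δ • (x ⊗ₜ[R] x) := by
    rw [hΔ]; simp
  refine ⟨a, δ, ha, hΔ', ?_⟩
  obtain ⟨r, hr'⟩ := hgen (HopfAlgebra.antipode R x) (by
    rw [Bialgebra.counitAlgHom_apply, HopfAlgebra.counit_antipode]; exact hx)
  have hanti : HopfAlgebra.antipode R x + x + δ • (HopfAlgebra.antipode R x * x) = 0 := by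
    have h := HopfAlgebra.mul_antipode_rTensor_comul_apply (R := R) x
    rw [show Coalgebra.comul (R := R) x = _ from hΔ', show Coalgebra.counit (R := R) x = 0 from hx] at h
    simp only [map_add, map_smul, LinearMap.rTensor_tmul, LinearMap.mul'_apply, mul_one, map_zero] at h
    rw [HopfAlgebra.antipode_one, one_mul] at h
    exact h
  have h1 : r + 1 + δ * (r * a) = 0 := by
    refine hfree _ ?_
    rw [← hanti, hr', smul_mul_assoc, ha, smul_smul, smul_smul, add_smul, add_smul, one_smul, mul_assoc]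
  have h2 : a * a * (δ * δ) + 3 * (a * δ) + 2 = 0 := by
    have h := congrArg (pairF φ φ) ((map_mul (Bialgebra.comulAlgHom R A) x x).symm.trans
      ((congrArg _ ha).trans (map_smul _ a x)))
    rw [hΔ'] at h
    simp only [add_mul, mul_add, Algebra.TensorProduct.tmul_mul_tmul, smul_mul_assoc, mul_smul_comm, one_mul, mul_one,
      ha, map_add, map_smul, TensorProduct.smul_tmul', TensorProduct.tmul_smul, smul_add] at h
    simp only [map_add, map_smul, pairF_tmul, hφx, hφ1, smul_eq_mul, mul_one, mul_zero, zero_mul, zero_add,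
      add_zero, one_mul] at h
    linear_combination h
  linear_combination (a * δ + 2) * h1 + (-r) * h2

theorem nonempty_bialgEquiv_iff {A' : Type v} [CommRing A'] [HopfAlgebra R A'] {x' : A'} {a b a' b' : R}
    (hx : Bialgebra.counitAlgHom R A x = 0)
    (hgen : ∀ f : A, Bialgebra.counitAlgHom R A f = 0 → ∃ r : R, f = r • x)
    (hfree : ∀ r : R, r • x = 0 → r = 0) (hxa : x * x = a • x)
    (hxb : Bialgebra.comulAlgHom R A x = x ⊗ₜ[R] 1 + 1 ⊗ₜ[R] x + b • (x ⊗ₜ[R] x))
    (hx' : Bialgebra.counitAlgHom R A' x' = 0)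
    (hgen' : ∀ f : A', Bialgebra.counitAlgHom R A' f = 0 → ∃ r : R, f = r • x')
    (hfree' : ∀ r : R, r • x' = 0 → r = 0) (hxa' : x' * x' = a' • x')
    (hxb' : Bialgebra.comulAlgHom R A' x' = x' ⊗ₜ[R] 1 + 1 ⊗ₜ[R] x' + b' • (x' ⊗ₜ[R] x')) :
    Nonempty (A ≃ₐc[R] A') ↔ ∃ s : Rˣ, a = a' * (s : R) ∧ b' = b * (s : R) := by
  obtain ⟨φ, hφx, hφ1, hφ⟩ := exists_coord hx hgen hfree
  obtain ⟨ψ, hψx, hψ1, hψ⟩ := exists_coord hx' hgen' hfree'
  constructor
  · rintro ⟨f⟩
    obtain ⟨s, hs⟩ := hgen' (f x) (by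
      rw [Bialgebra.counitAlgHom_apply, CoalgHomClass.counit_comp_apply]; exact hx)
    obtain ⟨t, ht⟩ := hgen (f.symm x') (by
      rw [Bialgebra.counitAlgHom_apply, CoalgHomClass.counit_comp_apply]; exact hx')
    have hst : s * t = 1 := by
      have h := congrArg f ht
      rw [BialgEquiv.apply_symm_apply, map_smul, hs, smul_smul] at h
      have h2 := congrArg ψ h
      rw [map_smul, hψx, smul_eq_mul, mul_one] at h2
      rw [mul_comm]; exact h2.symm
    refine ⟨⟨s, t, hst, by rw [mul_comm]; exact hst⟩, ?_, ?_⟩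
    · have h := congrArg (fun z => ψ (f z)) hxa
      simp only [map_mul, map_smul, hs, smul_mul_assoc, mul_smul_comm, hxa', hψx, smul_eq_mul, mul_one] at h
      linear_combination (-t) * h - (a - a' * s) * hst
    · have h := (CoalgHomClass.map_comp_comul_apply f x)
      rw [hs, show Coalgebra.comul (R := R) x = _ from hxb, map_smul, show Coalgebra.comul (R := R) x' = _ from hxb'] at h
      simp only [map_add, map_smul, TensorProduct.map_tmul] at h
      replace h : f x ⊗ₜ[R] f 1 + f 1 ⊗ₜ[R] f x + b • (f x ⊗ₜ[R] f x) =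
          s • (x' ⊗ₜ[R] (1 : A') + (1 : A') ⊗ₜ[R] x' + b' • (x' ⊗ₜ[R] x')) := h
      rw [hs, map_one] at h
      have h2 := congrArg (pairF ψ ψ) h
      simp only [TensorProduct.smul_tmul', TensorProduct.tmul_smul, map_add, map_smul, pairF_tmul, hψx, hψ1,
        smul_eq_mul, mul_one, mul_zero, zero_mul, zero_add, add_zero, smul_add] at h2
      linear_combination (-t) * h2 - (b' - b * s) * hst
  · rintro ⟨s, ha, hb⟩
    let F : A →ₗ[R] A' := (Bialgebra.counitAlgHom R A).toLinearMap.smulRight (1 : A') + φ.smulRight ((s : R) • x')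
    let G : A' →ₗ[R] A := (Bialgebra.counitAlgHom R A').toLinearMap.smulRight (1 : A) + ψ.smulRight (((s⁻¹ : Rˣ) : R) • x)
    have hF1 : F 1 = 1 := by simp [F, hφ1]
    have hFx : F x = (s : R) • x' := by simp [F, hφx, show Coalgebra.counit (R := R) x = 0 from hx]
    have hG1 : G 1 = 1 := by simp [G, hψ1]
    have hGx : G x' = ((s⁻¹ : Rˣ) : R) • x := by simp [G, hψx, show Coalgebra.counit (R := R) x' = 0 from hx']
    have hmul : ∀ y z, F (y * z) = F y * F z := fun y z => by
      rw [hφ y, hφ z]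
      simp only [add_mul, mul_add, smul_mul_assoc, mul_smul_comm, one_mul, mul_one, map_add, map_smul, hxa, hxa', hF1,
        hFx, smul_smul, ha]
      module
    have hinv1 : ∀ y, G (F y) = y := fun y => by
      conv_rhs => rw [hφ y]
      conv_lhs => rw [hφ y]
      simp only [map_add, map_smul, hF1, hFx, hG1, hGx, smul_smul, mul_assoc, Units.mul_inv, mul_one]
    have hinv2 : ∀ y, F (G y) = y := fun y => by
      conv_rhs => rw [hψ y]
      conv_lhs => rw [hψ y]
      simp only [map_add, map_smul, hF1, hFx, hG1, hGx, smul_smul, mul_assoc, Units.inv_mul, mul_one]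
    let e : A ≃ₐ[R] A' := AlgEquiv.ofLinearEquiv
      { F with invFun := G, left_inv := hinv1, right_inv := hinv2 } hF1 hmul
    have he : ∀ y, e y = F y := fun _ => rfl
    refine ⟨BialgEquiv.ofAlgEquiv e (AlgHom.ext fun y => ?_) (AlgHom.ext fun y => ?_)⟩
    · rw [AlgHom.comp_apply, show (e : A →ₐ[R] A') y = F y from rfl]
      conv_lhs => rw [hφ y]
      conv_rhs => rw [hφ y]
      simp only [map_add, map_smul, hF1, hFx, map_one, hx', hx, smul_zero]
    · rw [AlgHom.comp_apply, AlgHom.comp_apply, show (e : A →ₐ[R] A') y = F y from rfl]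
      conv_lhs => rw [hφ y]
      conv_rhs => rw [hφ y]
      simp only [map_add, map_smul, hF1, hFx, map_one, hxb, hxb', Algebra.TensorProduct.map_tmul]
      simp only [show ∀ z, (e : A →ₐ[R] A') z = F z from fun _ => rfl, hF1, hFx, ← TensorProduct.smul_tmul',
        TensorProduct.tmul_smul, hb]
      module

end OortTateLib
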