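import Groth.Agent.OortTateLib.Rank
import Mathlib.LinearAlgebra.Contraction

/-! The Cartier pairing of a group scheme of order `p`, read in `A ⊗ A^D ≅ End A`. -/

set_option autoImplicit false

noncomputable section

namespace OortTateLib

open TensorProduct WithConv

universe u

variable {p : ℕ} [Fact p.Prime] {R : Type u} [CommRing R] {A : Type u} [CommRing A] [HopfAlgebra R A]
  {u : R} {χ : (ZMod p)ˣ →* Rˣ}


variable (R A) in
/-- `a ⊗ f ↦ (b ↦ f b • a)`. -/
def pairE : A ⊗[R] CartDual.D R A →ₗ[R] (A →ₗ[R] A) :=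
  dualTensorHom R A A ∘ₗ (TensorProduct.comm R A (Module.Dual R A)).toLinearMap ∘ₗ
    (CartDual.toDual R A).toLinearMap.lTensor A

@[simp] theorem pairE_tmul (a : A) (f : CartDual.D R A) (b : A) : pairE R A (a ⊗ₜ f) b = f.ofConv b • a := by
  simp [pairE]

theorem pairE_bijective [Module.Finite R A] [Module.Projective R A] : Function.Bijective (pairE R A) := by
  have h : Function.Bijective ((CartDual.toDual R A).toLinearMap.lTensor A) :=
    ((CartDual.toDual R A).lTensor A).bijective
  exact dualTensorHom_bijective.comp ((TensorProduct.comm R A (Module.Dual R A)).bijective.comp h)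

theorem rid_lTensor_eval (x : A ⊗[R] CartDual.D R A) (a : A) :
    TensorProduct.rid R A (LinearMap.lTensor A ((Module.Dual.eval R A a) ∘ₗ (CartDual.toDual R A).toLinearMap) x) =
      pairE R A x a := by
  induction x using TensorProduct.induction_on with
  | zero => simp
  | tmul b f => simp
  | add s t hs ht => simp only [map_add, hs, ht, LinearMap.add_apply]

variable [Coalgebra.IsCocomm R A]

/-- Search shortcut: instance search does not assemble the distributivity classes of `A ⊗ A^D` unaided. -/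
instance instCommRingTensor : CommRing (A ⊗[R] CartDual.D R A) := Algebra.TensorProduct.instCommRing

theorem pairE_one : toConv (pairE R A 1) = 1 := by
  refine WithConv.ext (LinearMap.ext fun b => ?_)
  show pairE R A ((1 : A) ⊗ₜ[R] (1 : CartDual.D R A)) b = _
  rw [pairE_tmul]
  simp [LinearMap.convOne_def, Algebra.algebraMap_eq_smul_one]

theorem pairE_mul (x y : A ⊗[R] CartDual.D R A) :
    toConv (pairE R A (x * y)) = toConv (pairE R A x) * toConv (pairE R A y) := by
  induction x using TensorProduct.induction_on with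
  | zero => simp
  | add s t hs ht => simp only [add_mul, map_add, toConv_add, hs, ht]
  | tmul a f =>
    induction y using TensorProduct.induction_on with
    | zero => simp
    | add s t hs ht => simp only [mul_add, map_add, toConv_add, hs, ht]
    | tmul a' f' =>
      refine WithConv.ext (LinearMap.ext fun b => ?_)
      rw [Algebra.TensorProduct.tmul_mul_tmul]
      show pairE R A _ b = (toConv (pairE R A (a ⊗ₜ f)) * toConv (pairE R A (a' ⊗ₜ f'))) b
      rw [pairE_tmul, show (f * f').ofConv b = (f * f') b from rfl, (Coalgebra.Repr.arbitrary R b).convMul_apply,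
        (Coalgebra.Repr.arbitrary R b).convMul_apply, Finset.sum_smul]
      refine Finset.sum_congr rfl fun i _ => ?_
      simp [smul_smul, mul_comm]

theorem pairE_pow (x : A ⊗[R] CartDual.D R A) (n : ℕ) :
    toConv (pairE R A (x ^ n)) = toConv (pairE R A x) ^ n := by
  induction n with
  | zero => rw [pow_zero, pow_zero, pairE_one]
  | succ n ih => rw [pow_succ, pow_succ, pairE_mul, ih]

theorem powConv_toLinearMap (n : ℕ) :
    toConv (SGA3b.powConv R A n).toLinearMap = (toConv (LinearMap.id : A →ₗ[R] A)) ^ n :=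
  AlgHom.toLinearMap_convPow (toConv (AlgHom.id R A)) n

section canonical

variable {δ : A ⊗[R] CartDual.D R A}
  {ϕ : MonoidAlgebra R (Multiplicative (ZMod p)) →ₐ[R] A ⊗[R] CartDual.D R A}

theorem pairE_pow_canonical (hδ : pairE R A δ = LinearMap.id) (n : ℕ) :
    pairE R A (δ ^ n) = (SGA3b.powConv R A n).toLinearMap := by
  apply toConv_injective
  rw [pairE_pow, hδ, powConv_toLinearMap]

theorem phi_of (hϕ : ϕ (OortTate.muT R p) = δ) (n : ℕ) :
    ϕ (MonoidAlgebra.of R (Multiplicative (ZMod p)) (Multiplicative.ofAdd (n : ZMod p))) = δ ^ n := by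
  rw [← hϕ, ← map_pow, show OortTate.muT R p ^ n = MonoidAlgebra.of R (Multiplicative (ZMod p)) (Multiplicative.ofAdd 1) ^ n from rfl,
    ← map_pow, ← ofAdd_nsmul, nsmul_eq_mul, mul_one]

theorem pairE_phi_ygen (hδ : pairE R A δ = LinearMap.id) (hϕ : ϕ (OortTate.muT R p) = δ) (i : ℕ) :
    pairE R A (ϕ (OortTate.ygen R p u χ i)) = pr A u χ i := by
  refine LinearMap.ext fun b => ?_
  rw [ygen_eq, pr_apply, proj_apply]
  simp only [map_smul, map_sum, map_sub, map_one, LinearMap.smul_apply, LinearMap.coe_sum, Finset.sum_apply,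
    LinearMap.sub_apply]
  congr 1
  refine Finset.sum_congr rfl fun m _ => ?_
  congr 1
  rw [← ZMod.natCast_zmod_val (m : ZMod p), phi_of hϕ, pairE_pow_canonical hδ, ZMod.natCast_zmod_val,
    Algebra.TensorProduct.one_def, pairE_tmul]
  simp [LinearMap.convOne_def]

end canonical

theorem dual_apply_pr [Module.Finite R A] [Module.Projective R A] (hu : u * ((p - 1 : ℕ) : R) = 1) {i : ℕ}
    {f : CartDual.D R A} (hf : f ∈ OortTate.eigenAug R (CartDual.D R A) p χ i) (a : A) :
    f.ofConv (pr A u χ i a) = f.ofConv a := by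
  obtain ⟨h0, hm⟩ := mem_eigenAug.1 hf
  have h1 : f.ofConv 1 = 0 := h0
  have h2 : ∀ (m : (ZMod p)ˣ) (c : A), f.ofConv (SGA3b.powConv R A (m : ZMod p).val c) = (χ m : R) ^ i * f.ofConv c :=
    fun m c => by rw [← dual_powConv, hm]; rfl
  rw [pr_apply, proj_apply, map_smul, map_sum]
  simp only [map_smul, h2, smul_eq_mul, ← mul_assoc, χ_inv_mul, one_mul, Finset.sum_const, Finset.card_univ,
    nsmul_eq_mul]
  rw [u_card hu, one_mul]
  simp [h1]

variable [Module.Finite R A] [Module.Projective R A]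

variable (χ) in
/-- Restriction of a linear form in the dual eigenspace to the eigenspace. -/
def res (i : ℕ) : OortTate.eigenAug R (CartDual.D R A) p χ i →ₗ[R] Module.Dual R (OortTate.eigenAug R A p χ i) :=
  (OortTate.eigenAug R A p χ i).subtype.dualMap ∘ₗ (CartDual.toDual R A).toLinearMap ∘ₗ
    (OortTate.eigenAug R (CartDual.D R A) p χ i).subtype

/-- `res` as an equivalence. -/
def resEquiv (hu : u * ((p - 1 : ℕ) : R) = 1) (hp : (toConv (AlgHom.id R A)) ^ p = 1) (i : ℕ) :
    OortTate.eigenAug R (CartDual.D R A) p χ i ≃ₗ[R] Module.Dual R (OortTate.eigenAug R A p χ i) :=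
  LinearEquiv.ofBijective (res χ i) (dual_restrict_eigenAug_bijective hu hp i)

@[simp] theorem resEquiv_apply (hu : u * ((p - 1 : ℕ) : R) = 1) (hp : (toConv (AlgHom.id R A)) ^ p = 1) (i : ℕ)
    (f : OortTate.eigenAug R (CartDual.D R A) p χ i) (a : OortTate.eigenAug R A p χ i) :
    resEquiv hu hp i f a = (f : CartDual.D R A).ofConv (a : A) := rfl

variable (R A χ) in
/-- The image of `I₁ ⊗ I₁^D`. -/
abbrev imgMap : (OortTate.eigenAug R A p χ 1) ⊗[R] (OortTate.eigenAug R (CartDual.D R A) p χ 1) →ₗ[R]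
    A ⊗[R] CartDual.D R A :=
  TensorProduct.map (OortTate.eigenAug R A p χ 1).subtype (OortTate.eigenAug R (CartDual.D R A) p χ 1).subtype

/-- The endomorphism of `I₁` defined by an element of `I₁ ⊗ I₁^D`. -/
def endOf (hu : u * ((p - 1 : ℕ) : R) = 1) (hp : (toConv (AlgHom.id R A)) ^ p = 1) :
    (OortTate.eigenAug R A p χ 1) ⊗[R] (OortTate.eigenAug R (CartDual.D R A) p χ 1) →ₗ[R]
      Module.End R (OortTate.eigenAug R A p χ 1) :=
  dualTensorHom R (OortTate.eigenAug R A p χ 1) (OortTate.eigenAug R A p χ 1) ∘ₗ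
    (TensorProduct.comm R _ _).toLinearMap ∘ₗ
      ((resEquiv hu hp 1).lTensor (OortTate.eigenAug R A p χ 1)).toLinearMap

theorem endOf_tmul (hu : u * ((p - 1 : ℕ) : R) = 1) (hp : (toConv (AlgHom.id R A)) ^ p = 1)
    (a : OortTate.eigenAug R A p χ 1) (f : OortTate.eigenAug R (CartDual.D R A) p χ 1)
    (b : OortTate.eigenAug R A p χ 1) :
    endOf hu hp (a ⊗ₜ f) b = (f : CartDual.D R A).ofConv (b : A) • a := by
  simp [endOf]

theorem endOf_surjective (hu : u * ((p - 1 : ℕ) : R) = 1) (hp : (toConv (AlgHom.id R A)) ^ p = 1) :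
    Function.Surjective (endOf (χ := χ) hu hp) := by
  haveI := finite_eigenAug (χ := χ) hu hp 1
  haveI := projective_eigenAug (χ := χ) hu hp 1
  exact dualTensorHom_bijective.surjective.comp
    ((TensorProduct.comm R _ _).surjective.comp ((resEquiv hu hp 1).lTensor _).surjective)

theorem pairE_imgMap (hu : u * ((p - 1 : ℕ) : R) = 1) (hp : (toConv (AlgHom.id R A)) ^ p = 1)
    (z : (OortTate.eigenAug R A p χ 1) ⊗[R] (OortTate.eigenAug R (CartDual.D R A) p χ 1)) (b : A) :
    pairE R A (imgMap R A χ z) b = (endOf hu hp z (qr u χ hp 1 b) : A) := by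
  induction z using TensorProduct.induction_on with
  | zero => simp
  | add s t hs ht => simp only [map_add, LinearMap.add_apply, Submodule.coe_add, hs, ht]
  | tmul a f =>
    rw [endOf_tmul, TensorProduct.map_tmul, pairE_tmul, Submodule.coe_smul]
    congr 1
    exact (dual_apply_pr hu f.2 b).symm

/-- The element of `I₁ ⊗ I₁^D` corresponding to the identity goes to `ϕ y₁`. -/
theorem imgMap_eq_phi_ygen {δ : A ⊗[R] CartDual.D R A}
    {ϕ : MonoidAlgebra R (Multiplicative (ZMod p)) →ₐ[R] A ⊗[R] CartDual.D R A} (hu : u * ((p - 1 : ℕ) : R) = 1)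
    (hp : (toConv (AlgHom.id R A)) ^ p = 1) (hδ : pairE R A δ = LinearMap.id) (hϕ : ϕ (OortTate.muT R p) = δ)
    {z : (OortTate.eigenAug R A p χ 1) ⊗[R] (OortTate.eigenAug R (CartDual.D R A) p χ 1)}
    (hz : endOf hu hp z = LinearMap.id) : imgMap R A χ z = ϕ (OortTate.ygen R p u χ 1) :=
  pairE_bijective.injective (LinearMap.ext fun b => by
    rw [pairE_imgMap hu hp, hz, pairE_phi_ygen hδ hϕ]; rfl)

theorem exists_canonical (hp : (toConv (AlgHom.id R A)) ^ p = 1) :
    ∃ (δ : A ⊗[R] CartDual.D R A) (ϕ : MonoidAlgebra R (Multiplicative (ZMod p)) →ₐ[R] A ⊗[R] CartDual.D R A),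
      pairE R A δ = LinearMap.id ∧ ϕ (OortTate.muT R p) = δ := by
  obtain ⟨δ, hδ⟩ := pairE_bijective.surjective (LinearMap.id : A →ₗ[R] A)
  have hδp : δ ^ p = 1 := by
    refine pairE_bijective.injective (toConv_injective ?_)
    rw [pairE_pow, hδ, pairE_one, ← powConv_toLinearMap, SGA3b.powConv, hp, AlgHom.toLinearMap_convOne]
  have hmod : ∀ n, δ ^ (n % p) = δ ^ n := fun n => by
    conv_rhs => rw [← Nat.mod_add_div n p, pow_add, pow_mul, hδp, one_pow, mul_one]
  let h : (Multiplicative (ZMod p)) →* A ⊗[R] CartDual.D R A :=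
    { toFun := fun g => δ ^ g.toAdd.val
      map_one' := by simp
      map_mul' := fun a b => by rw [toAdd_mul, ZMod.val_add, hmod, pow_add] }
  refine ⟨δ, MonoidAlgebra.lift R _ (Multiplicative (ZMod p)) h, hδ, ?_⟩
  show MonoidAlgebra.lift R _ (Multiplicative (ZMod p)) h (MonoidAlgebra.of R (Multiplicative (ZMod p)) (Multiplicative.ofAdd 1)) = δ
  rw [MonoidAlgebra.lift_of]
  show δ ^ (1 : ZMod p).val = δ
  rw [ZMod.val_one, pow_one]

/-- The span of the pure tensors from two submodules. -/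
def tspan (M : Submodule R A) (N : Submodule R (CartDual.D R A)) : Submodule R (A ⊗[R] CartDual.D R A) :=
  Submodule.span R {x | ∃ a ∈ M, ∃ f ∈ N, x = a ⊗ₜ f}

omit [Module.Finite R A] [Module.Projective R A] in
theorem pow_mem_tspan {M : Submodule R A} {N : Submodule R (CartDual.D R A)} {x : A ⊗[R] CartDual.D R A}
    (hx : x ∈ tspan M N) : ∀ t, 1 ≤ t → x ^ t ∈ tspan (M ^ t) (N ^ t) := by
  intro t ht
  induction t, ht using Nat.le_induction with
  | base =>
    simp only [pow_one, Submodule.pow_one]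
    exact hx
  | succ t _ ih =>
    simp only [pow_succ, Submodule.pow_succ]
    have h : tspan (M ^ t) (N ^ t) * tspan M N ≤ tspan (M ^ t * M) (N ^ t * N) := by
      refine Submodule.mul_le.2 fun a' ha' b' hb' => ?_
      induction ha' using Submodule.span_induction with
      | zero => simp
      | add a₁ a₂ _ _ h₁ h₂ => rw [add_mul]; exact add_mem h₁ h₂
      | smul r a₁ _ h₁ => rw [smul_mul_assoc]; exact Submodule.smul_mem _ r h₁
      | mem a₀ ha₀ =>
        induction hb' using Submodule.span_induction with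
        | zero => simp
        | add b₁ b₂ _ _ h₁ h₂ => rw [mul_add]; exact add_mem h₁ h₂
        | smul r b₁ _ h₁ => rw [mul_smul_comm]; exact Submodule.smul_mem _ r h₁
        | mem b₀ hb₀ =>
          obtain ⟨a, ha, f, hf, rfl⟩ := ha₀
          obtain ⟨c, hc, g, hg, rfl⟩ := hb₀
          exact Submodule.subset_span ⟨a * c, Submodule.mul_mem_mul ha hc, f * g, Submodule.mul_mem_mul hf hg,
            Algebra.TensorProduct.tmul_mul_tmul a c f g⟩
    exact h (Submodule.mul_mem_mul ih hx)

omit [Coalgebra.IsCocomm R A] [Module.Finite R A] [Module.Projective R A] in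
theorem pairE_mem_left {M : Submodule R A} {N : Submodule R (CartDual.D R A)} {x : A ⊗[R] CartDual.D R A}
    (hx : x ∈ tspan M N) (b : A) : pairE R A x b ∈ M := by
  suffices h : tspan M N ≤ M.comap ((LinearMap.applyₗ b) ∘ₗ pairE R A) from h hx
  rw [tspan, Submodule.span_le]
  rintro _ ⟨a, ha, f, -, rfl⟩
  show pairE R A (a ⊗ₜ f) b ∈ M
  rw [pairE_tmul]
  exact M.smul_mem _ ha

omit [Coalgebra.IsCocomm R A] [Module.Finite R A] [Module.Projective R A] in
theorem pairE_mem_right {M : Submodule R A} {N : Submodule R (CartDual.D R A)} {x : A ⊗[R] CartDual.D R A}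
    (hx : x ∈ tspan M N) (g : CartDual.D R A) : toConv (g.ofConv ∘ₗ pairE R A x) ∈ N := by
  let T : A ⊗[R] CartDual.D R A →ₗ[R] CartDual.D R A :=
    (CartDual.toDual R A).symm.toLinearMap ∘ₗ (LinearMap.compRight R g.ofConv) ∘ₗ pairE R A
  suffices h : tspan M N ≤ N.comap T from h hx
  rw [tspan, Submodule.span_le]
  rintro _ ⟨a, -, f, hf, rfl⟩
  show toConv (g.ofConv ∘ₗ pairE R A (a ⊗ₜ f)) ∈ N
  rw [show toConv (g.ofConv ∘ₗ pairE R A (a ⊗ₜ f)) = g.ofConv a • f from
    WithConv.ext (LinearMap.ext fun b => by simp [mul_comm])]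
  exact N.smul_mem _ hf

theorem pow_mem_eigen {B : Type u} [CommRing B] [HopfAlgebra R B] {t : ℕ} (ht : 1 ≤ t) :
    (OortTate.eigenAug R B p χ 1) ^ t ≤ OortTate.eigenAug R B p χ t := by
  induction t, ht using Nat.le_induction with
  | base => rw [pow_one]
  | succ t _ ih =>
    rw [pow_succ]
    refine Submodule.mul_le.2 fun a ha b hb => ?_
    obtain ⟨ha0, ham⟩ := mem_eigenAug.1 (ih ha)
    obtain ⟨-, hbm⟩ := mem_eigenAug.1 hb
    refine mem_eigenAug.2 ⟨by rw [map_mul, ha0, zero_mul], fun m => ?_⟩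
    rw [map_mul, ham, hbm, smul_mul_smul_comm, pow_one, ← pow_succ]

theorem eigenAug_eq_pow (hu : u * ((p - 1 : ℕ) : R) = 1)
    (hχp : ∀ m : (ZMod p)ˣ, ((χ m : Rˣ) : R) - (((m : ZMod p).val : ℕ) : R) ∈ Ideal.span ({(p : R)} : Set R))
    (hp : (toConv (AlgHom.id R A)) ^ p = 1) {t : ℕ} (ht : 1 ≤ t) (htp : t < p) :
    (OortTate.eigenAug R A p χ 1) ^ t = OortTate.eigenAug R A p χ t ∧
      (OortTate.eigenAug R (CartDual.D R A) p χ 1) ^ t = OortTate.eigenAug R (CartDual.D R A) p χ t := by
  obtain ⟨δ, ϕ, hδ, hϕ⟩ := exists_canonical (R := R) (A := A) hp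
  obtain ⟨z, hz⟩ := endOf_surjective (χ := χ) hu hp LinearMap.id
  have hz' := imgMap_eq_phi_ygen hu hp hδ hϕ hz
  have hy : ϕ (OortTate.ygen R p u χ 1) ∈
      tspan (OortTate.eigenAug R A p χ 1) (OortTate.eigenAug R (CartDual.D R A) p χ 1) := by
    rw [← hz']
    clear hz' hz
    induction z using TensorProduct.induction_on with
    | zero => rw [map_zero]; exact zero_mem _
    | tmul a f => exact Submodule.subset_span ⟨_, a.2, _, f.2, TensorProduct.map_tmul _ _ a f⟩
    | add s t hs ht => rw [map_add]; exact add_mem hs ht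
  obtain ⟨w, hw⟩ := Submodule.mem_span_singleton.1
    (eigen_le_span hu t (pow_mem_eigenAug (ygen_mem (p := p) (R := R) (u := u) (χ := χ) 1) ht))
  obtain ⟨v, rfl⟩ := isUnit_of_pow_eq hu hχp htp hw.symm
  have hpr : pairE R A (((v⁻¹ : Rˣ) : R) • ϕ (OortTate.ygen R p u χ 1) ^ t) = pr A u χ t := by
    rw [← map_pow, ← hw]
    simp only [map_smul, smul_smul, Units.inv_mul, one_smul, pairE_phi_ygen hδ hϕ]
  have hmem : ((v⁻¹ : Rˣ) : R) • ϕ (OortTate.ygen R p u χ 1) ^ t ∈
      tspan ((OortTate.eigenAug R A p χ 1) ^ t) ((OortTate.eigenAug R (CartDual.D R A) p χ 1) ^ t) :=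
    Submodule.smul_mem _ _ (pow_mem_tspan hy t ht)
  refine ⟨le_antisymm (pow_mem_eigen ht) fun b hb => ?_, le_antisymm (pow_mem_eigen ht) fun g hg => ?_⟩
  · rw [← pr_eq_self hu hb, ← hpr]
    exact pairE_mem_left hmem b
  · have h := pairE_mem_right hmem g
    rw [hpr] at h
    rwa [show toConv (g.ofConv ∘ₗ pr A u χ t) = g from
      WithConv.ext (LinearMap.ext fun a => dual_apply_pr hu hg a)] at h

theorem span_phi_ygen_eq (hu : u * ((p - 1 : ℕ) : R) = 1) (hp : (toConv (AlgHom.id R A)) ^ p = 1)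
    [Module.Invertible R (OortTate.eigenAug R A p χ 1)] {δ : A ⊗[R] CartDual.D R A}
    {ϕ : MonoidAlgebra R (Multiplicative (ZMod p)) →ₐ[R] A ⊗[R] CartDual.D R A} (hδ : pairE R A δ = LinearMap.id)
    (hϕ : ϕ (OortTate.muT R p) = δ) :
    Submodule.span R {ϕ (OortTate.ygen R p u χ 1)} = LinearMap.range (imgMap R A χ) ∧
      ∀ r : R, r • ϕ (OortTate.ygen R p u χ 1) = 0 → r = 0 := by
  obtain ⟨z, hz⟩ := endOf_surjective (χ := χ) hu hp LinearMap.id
  have hz' := imgMap_eq_phi_ygen hu hp hδ hϕ hz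
  refine ⟨le_antisymm ((Submodule.span_singleton_le_iff_mem _ _).2 ⟨z, hz'⟩) ?_, fun r hr => ?_⟩
  · rintro _ ⟨w, rfl⟩
    obtain ⟨c, hc⟩ := (Module.Invertible.toModuleEnd_bijective R (OortTate.eigenAug R A p χ 1)).surjective
      (endOf hu hp w)
    refine Submodule.mem_span_singleton.2 ⟨c, pairE_bijective.injective (LinearMap.ext fun b => ?_)⟩
    rw [pairE_imgMap hu hp, ← hc, map_smul, LinearMap.smul_apply, pairE_phi_ygen hδ hϕ]
    rfl
  · refine FaithfulSMul.eq_of_smul_eq_smul (α := OortTate.eigenAug R A p χ 1) fun a => Subtype.ext ?_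
    have h := LinearMap.congr_fun (congrArg (pairE R A) hr) (a : A)
    rw [map_smul, LinearMap.smul_apply, pairE_phi_ygen hδ hϕ, pr_eq_self hu a.2, map_zero,
      LinearMap.zero_apply] at h
    rw [zero_smul]
    exact h

end OortTateLib
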