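import Groth.Agent.OortTateLib.Pairing
import Mathlib.LinearAlgebra.TensorAlgebra.Basic
import Mathlib.LinearAlgebra.TensorProduct.Submodule

/-! The algebra of a group scheme of order `p` is generated by `I₁` with the relations `I₁^p ⊆ I₁`. -/

set_option autoImplicit false

noncomputable section

namespace OortTateLib

open TensorProduct WithConv

universe u v

variable {p : ℕ} [Fact p.Prime] {R : Type u} [CommRing R]

variable (R) in
/-- The structure of the eigenspaces which gives the presentation. -/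
structure Good (B : Type u) [CommRing B] [HopfAlgebra R B] (u : R) (χ : (ZMod p)ˣ →* Rˣ) : Prop where
  hu : u * ((p - 1 : ℕ) : R) = 1
  hχ : ∀ m : (ZMod p)ˣ, m ≠ 1 → IsUnit ((χ m : R) - 1)
  hp : (toConv (AlgHom.id R B)) ^ p = 1
  inv : ∀ i, Module.Invertible R (OortTate.eigenAug R B p χ i)
  pow : ∀ t, 1 ≤ t → t < p → (OortTate.eigenAug R B p χ 1) ^ t = OortTate.eigenAug R B p χ t

variable {B : Type u} [CommRing B] [HopfAlgebra R B] {u : R} {χ : (ZMod p)ˣ →* Rˣ}

theorem eigenAug_p : OortTate.eigenAug R B p χ p = OortTate.eigenAug R B p χ 1 := by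
  rw [eigenAug_mod, show p % (p - 1) = 1 % (p - 1) by
    have := (Fact.out : p.Prime).two_le
    rw [← Nat.add_mod_right 1 (p - 1), show 1 + (p - 1) = p by omega], ← eigenAug_mod]

variable (R B χ) in
/-- The algebra map from the tensor algebra of `I₁`. -/
abbrev pres : TensorAlgebra R (OortTate.eigenAug R B p χ 1) →ₐ[R] B :=
  TensorAlgebra.lift R (OortTate.eigenAug R B p χ 1).subtype

variable (R B χ) in
/-- The relations. -/
abbrev relSet : Set (TensorAlgebra R (OortTate.eigenAug R B p χ 1)) :=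
  {x | ∃ (f : Fin p → OortTate.eigenAug R B p χ 1) (g : OortTate.eigenAug R B p χ 1),
    (g : B) = ∏ i, (f i : B) ∧ x = (List.ofFn fun i => TensorAlgebra.ι R (f i)).prod - TensorAlgebra.ι R g}

theorem pres_ι (a : OortTate.eigenAug R B p χ 1) : pres R B χ (TensorAlgebra.ι R a) = (a : B) := by simp [pres]

theorem pres_prod {n : ℕ} (f : Fin n → OortTate.eigenAug R B p χ 1) :
    pres R B χ (List.ofFn fun i => TensorAlgebra.ι R (f i)).prod = ∏ i, (f i : B) := by
  rw [map_list_prod, List.map_ofFn, List.prod_ofFn]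
  exact Finset.prod_congr rfl fun i _ => pres_ι (f i)

theorem Good.pres_surjective (G : Good R B u χ) : Function.Surjective (pres R B χ) := by
  intro b
  let S := (pres R B χ).range
  have hI : ∀ t, 1 ≤ t → (OortTate.eigenAug R B p χ 1) ^ t ≤ Subalgebra.toSubmodule S := by
    intro t ht
    induction t, ht using Nat.le_induction with
    | base =>
      rw [pow_one]
      exact fun a ha => ⟨TensorAlgebra.ι R ⟨a, ha⟩, pres_ι ⟨a, ha⟩⟩
    | succ t _ ih =>
      rw [pow_succ, Submodule.mul_le]
      intro a ha c hc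
      exact S.mul_mem (ih ha) ⟨TensorAlgebra.ι R ⟨c, hc⟩, pres_ι ⟨c, hc⟩⟩
  obtain ⟨-, hsup, -⟩ := decomposition G.hu G.hχ G.hp
  have hker : LinearMap.ker (Bialgebra.counitAlgHom R B).toLinearMap ≤ Subalgebra.toSubmodule S := by
    rw [← hsup]
    refine iSup_le fun i => ?_
    have hP := (Fact.out : p.Prime).two_le
    rcases Nat.eq_zero_or_pos (i : ℕ) with h | h
    · rw [h, ← Nat.mod_self (p - 1), ← eigenAug_mod, ← G.pow (p - 1) (by omega) (by omega)]
      exact hI _ (by omega)
    · rw [← G.pow i h (by have := i.2; omega)]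
      exact hI _ h
  have h1 : b - algebraMap R B (Bialgebra.counitAlgHom R B b) ∈ S := hker (by
    rw [LinearMap.mem_ker, AlgHom.toLinearMap_apply, map_sub, AlgHom.commutes]
    exact sub_self _)
  have h2 : b ∈ S := by simpa using S.add_mem h1 (S.algebraMap_mem (Bialgebra.counitAlgHom R B b))
  exact h2

variable (R B χ) in
/-- The image of `I₁` in the tensor algebra. -/
abbrev gens : Submodule R (TensorAlgebra R (OortTate.eigenAug R B p χ 1)) :=
  LinearMap.range (TensorAlgebra.ι R (M := OortTate.eigenAug R B p χ 1))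

theorem map_gens_pow (t : ℕ) :
    (gens R B χ ^ t).map (pres R B χ).toLinearMap = (OortTate.eigenAug R B p χ 1) ^ t := by
  rw [Submodule.map_pow]
  congr 1
  refine le_antisymm ?_ fun a ha => ⟨_, ⟨⟨a, ha⟩, rfl⟩, pres_ι ⟨a, ha⟩⟩
  rintro _ ⟨_, ⟨a, rfl⟩, rfl⟩
  rw [AlgHom.toLinearMap_apply, pres_ι]
  exact a.2

theorem Good.map_gens_pow_eq (G : Good R B u χ) {t : ℕ} (ht : 1 ≤ t) (htp : t < p) :
    (gens R B χ ^ t).map (pres R B χ).toLinearMap = OortTate.eigenAug R B p χ t := by
  rw [map_gens_pow, G.pow t ht htp]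

theorem Good.pres_injOn (G : Good R B u χ) :
    ∀ t, 1 ≤ t → t < p → ∀ x ∈ gens R B χ ^ t, pres R B χ x = 0 → x = 0 := by
  intro t ht
  induction t, ht using Nat.le_induction with
  | base =>
    intro _ x hx h0
    rw [pow_one] at hx
    obtain ⟨a, rfl⟩ := hx
    rw [pres_ι] at h0
    rw [show a = 0 from Subtype.ext h0, map_zero]
  | succ t ht ih =>
    intro htp x hx h0
    haveI := G.inv
    -- restrictions of `pres` to the powers of the generators
    let g : ∀ s, 1 ≤ s → s < p → (↥(gens R B χ ^ s) →ₗ[R] OortTate.eigenAug R B p χ s) := fun s hs hsp =>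
      ((pres R B χ).toLinearMap.domRestrict _).codRestrict _ fun y => by
        rw [← G.map_gens_pow_eq hs hsp]; exact ⟨y, y.2, rfl⟩
    have hg : ∀ s hs hsp, Function.Surjective (g s hs hsp) := fun s hs hsp a => by
      obtain ⟨y, hy, hya⟩ := (G.map_gens_pow_eq hs hsp).symm.le a.2
      exact ⟨⟨y, hy⟩, Subtype.ext hya⟩
    have hgt : Function.Bijective (g t ht (by omega)) := ⟨(injective_iff_map_eq_zero _).2 fun y hy =>
      Subtype.ext (ih (by omega) y y.2 (Subtype.ext_iff.1 hy)), hg t ht (by omega)⟩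
    haveI : Module.Invertible R ↥(gens R B χ ^ t) :=
      Module.Invertible.congr (LinearEquiv.ofBijective _ hgt).symm
    haveI : Module.Invertible R ↥(gens R B χ) :=
      Module.Invertible.congr (LinearEquiv.ofInjective (TensorAlgebra.ι R (M := OortTate.eigenAug R B p χ 1))
        fun a a' h => Subtype.ext (by simpa [pres_ι] using congrArg (pres R B χ) h))
    let e : ↥(gens R B χ ^ t * gens R B χ) →ₗ[R] ↥(gens R B χ ^ (t + 1)) :=
      (LinearEquiv.ofEq _ _ (pow_succ _ t).symm).toLinearMap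
    let m := e ∘ₗ Submodule.mulMap' (gens R B χ ^ t) (gens R B χ)
    have hm : Function.Surjective m :=
      (LinearEquiv.ofEq _ _ (pow_succ _ t).symm).surjective.comp (Submodule.mulMap'_surjective _ _)
    have hbij := Module.Invertible.bijective_of_surjective
      (f := g (t + 1) (by omega) htp ∘ₗ m) ((hg (t + 1) (by omega) htp).comp hm)
    obtain ⟨z, hz⟩ := hm ⟨x, hx⟩
    have hz0 : z = 0 := hbij.injective (by
      rw [map_zero, LinearMap.comp_apply, hz]
      exact Subtype.ext h0)
    rw [hz0, map_zero] at hz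
    exact (congrArg Subtype.val hz).symm

theorem gens_pow_le_span (n : ℕ) :
    gens R B χ ^ n ≤ Submodule.span R
      (Set.range fun f : Fin n → OortTate.eigenAug R B p χ 1 => (List.ofFn fun i => TensorAlgebra.ι R (f i)).prod) := by
  induction n with
  | zero =>
    rw [pow_zero, Submodule.one_eq_span, Submodule.span_singleton_le_iff_mem]
    exact Submodule.subset_span ⟨Fin.elim0, by simp⟩
  | succ n ih =>
    rw [pow_succ, Submodule.mul_le]
    rintro a ha _ ⟨c, rfl⟩
    have ha' := ih ha
    clear ha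
    induction ha' using Submodule.span_induction with
    | zero => simp
    | add a₁ a₂ _ _ h₁ h₂ => rw [add_mul]; exact add_mem h₁ h₂
    | smul r a₁ _ h₁ => rw [smul_mul_assoc]; exact Submodule.smul_mem _ r h₁
    | mem a₀ ha₀ =>
      obtain ⟨f, rfl⟩ := ha₀
      refine Submodule.subset_span ⟨Fin.snoc f c, ?_⟩
      show (List.ofFn fun i => TensorAlgebra.ι R ((Fin.snoc f c : Fin (n + 1) → _) i)).prod = _
      rw [List.ofFn_succ', List.prod_concat]
      simp

theorem span_relSet_le : Ideal.span (relSet R B χ) ≤ RingHom.ker (pres R B χ) := by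
  rw [Ideal.span_le]
  rintro _ ⟨f, g, hg, rfl⟩
  rw [SetLike.mem_coe, RingHom.mem_ker, map_sub, pres_prod, pres_ι, hg, sub_self]

theorem mem_gens_iSup_top (x : TensorAlgebra R (OortTate.eigenAug R B p χ 1)) : x ∈ ⨆ n, gens R B χ ^ n := by
  induction x using TensorAlgebra.induction with
  | algebraMap r => exact Submodule.mem_iSup_of_mem 0 (by rw [pow_zero]; exact Submodule.algebraMap_mem r)
  | ι a => exact Submodule.mem_iSup_of_mem 1 (by rw [pow_one]; exact LinearMap.mem_range_self _ a)
  | mul a b ha hb =>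
    have h := Submodule.mul_mem_mul ha hb
    rw [Submodule.iSup_mul] at h
    refine (iSup_le fun i => ?_ : ⨆ i, gens R B χ ^ i * ⨆ n, gens R B χ ^ n ≤ ⨆ n, gens R B χ ^ n) h
    rw [Submodule.mul_iSup]
    exact iSup_le fun j => by rw [← pow_add]; exact le_iSup (fun n => gens R B χ ^ n) (i + j)
  | add a b ha hb => exact add_mem ha hb

theorem gens_pow_le_sum_sup (n : ℕ) : gens R B χ ^ n ≤
    (⨆ t : Fin p, gens R B χ ^ (t : ℕ)) ⊔ (Ideal.span (relSet R B χ)).restrictScalars R := by
  induction n using Nat.strong_induction_on with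
  | _ n ih =>
    have hP := (Fact.out : p.Prime).two_le
    rcases lt_or_ge n p with h | h
    · exact le_sup_of_le_left (le_iSup (fun t : Fin p => gens R B χ ^ (t : ℕ)) ⟨n, h⟩)
    · have hp1 : gens R B χ ^ p ≤ gens R B χ ^ 1 ⊔ (Ideal.span (relSet R B χ)).restrictScalars R := by
        refine (gens_pow_le_span p).trans (Submodule.span_le.2 ?_)
        rintro _ ⟨f, rfl⟩
        have hmem : ∏ i, (f i : B) ∈ OortTate.eigenAug R B p χ 1 := by
          refine eigenAug_p.le (pow_mem_eigen (by omega) ?_)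
          rw [← pres_prod, ← map_gens_pow]
          refine ⟨_, ?_, rfl⟩
          have hlist : ∀ {m : ℕ} (f : Fin m → OortTate.eigenAug R B p χ 1),
              (List.ofFn fun i => TensorAlgebra.ι R (f i)).prod ∈ gens R B χ ^ m := by
            intro m
            induction m with
            | zero => intro f; rw [pow_zero]; simpa using Submodule.one_le.1 le_rfl
            | succ m ihm =>
              intro f
              rw [List.ofFn_succ', List.prod_concat, pow_succ]
              exact Submodule.mul_mem_mul (ihm _) (LinearMap.mem_range_self _ _)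
          exact hlist f
        show (List.ofFn fun i => TensorAlgebra.ι R (f i)).prod ∈ _
        rw [← add_sub_cancel (TensorAlgebra.ι R (⟨_, hmem⟩ : OortTate.eigenAug R B p χ 1))
          (List.ofFn fun i => TensorAlgebra.ι R (f i)).prod]
        exact add_mem (Submodule.mem_sup_left (by rw [pow_one]; exact LinearMap.mem_range_self _ _))
          (Submodule.mem_sup_right (Ideal.subset_span ⟨f, ⟨_, hmem⟩, rfl, rfl⟩))
      obtain ⟨k, rfl⟩ := Nat.exists_eq_add_of_le' h
      rw [pow_add]
      refine (mul_le_mul' le_rfl hp1).trans ?_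
      rw [Submodule.mul_sup, ← pow_add]
      refine sup_le (ih (k + 1) (by omega)) (le_sup_of_le_right (Submodule.mul_le.2 fun a _ b hb => ?_))
      exact Ideal.mul_mem_left _ a hb

theorem Good.ker_pres (G : Good R B u χ) : RingHom.ker (pres R B χ) = Ideal.span (relSet R B χ) := by
  classical
  refine le_antisymm (fun x hx => ?_) span_relSet_le
  have hP := (Fact.out : p.Prime).two_le
  obtain ⟨y, hy, j, hj, rfl⟩ := Submodule.mem_sup.1 (iSup_le gens_pow_le_sum_sup (mem_gens_iSup_top x))
  rw [RingHom.mem_ker, map_add, RingHom.mem_ker.1 (span_relSet_le hj), add_zero] at hx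
  obtain ⟨c, hc, rfl⟩ := (Submodule.mem_iSup_iff_exists_finsupp _ _).1 hy
  rw [Finsupp.sum_fintype _ _ (fun _ => rfl)] at hx ⊢
  refine add_mem ?_ hj
  rw [map_sum] at hx
  suffices H : ∀ t, c t = 0 by simp [H]
  have hmem : ∀ t : Fin p, 1 ≤ (t : ℕ) → pres R B χ (c t) ∈ OortTate.eigenAug R B p χ t := fun t ht => by
    rw [← G.map_gens_pow_eq ht t.2]; exact ⟨_, hc t, rfl⟩
  have hzero : c ⟨0, by omega⟩ = 0 := by
    have h0 := hc ⟨0, by omega⟩
    rw [pow_zero, Submodule.mem_one] at h0
    obtain ⟨r, hr⟩ := h0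
    have h1 := congrArg (Bialgebra.counitAlgHom R B) hx
    rw [map_sum, map_zero, Finset.sum_eq_single ⟨0, by omega⟩ (fun t _ ht =>
      (mem_eigenAug.1 (hmem t (Nat.one_le_iff_ne_zero.2 fun h => ht (Fin.ext h)))).1)
      (fun h => absurd (Finset.mem_univ _) h), ← hr, AlgHom.commutes, AlgHom.commutes] at h1
    rw [← hr, show r = 0 from h1, map_zero]
  intro t
  rcases Nat.eq_zero_or_pos (t : ℕ) with ht | ht
  · rw [show t = ⟨0, by omega⟩ from Fin.ext ht]; exact hzero
  refine G.pres_injOn t ht t.2 _ (hc t) ?_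
  have h2p : 0 < p - 1 := by omega
  have h1 := congrArg (OortTate.proj R B p u χ ((t : ℕ) % (p - 1))) hx
  rw [map_sum, map_zero, Finset.sum_eq_single t (fun s _ hs => ?_) (fun h => absurd (Finset.mem_univ _) h)] at h1
  · rw [proj_eq_self G.hu (by rw [← eigenAug_mod]; exact hmem t ht)] at h1
    exact h1
  · rcases Nat.eq_zero_or_pos (s : ℕ) with hs0 | hs0
    · rw [show s = ⟨0, by omega⟩ from Fin.ext hs0, hzero, map_zero, map_zero]
    · have hs' := hmem s hs0
      rw [eigenAug_mod] at hs'
      rw [proj_of_mem G.hu G.hχ (i := ⟨(t : ℕ) % (p - 1), Nat.mod_lt _ h2p⟩)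
        (j := ⟨(s : ℕ) % (p - 1), Nat.mod_lt _ h2p⟩) hs', if_neg]
      intro h
      refine hs (Fin.ext ?_)
      have h' : (t : ℕ) % (p - 1) = (s : ℕ) % (p - 1) := congrArg Fin.val h
      have hs2 := s.2
      have ht2 := t.2
      rcases eq_or_lt_of_le (show (t : ℕ) ≤ p - 1 by omega) with h3 | h3 <;>
        rcases eq_or_lt_of_le (show (s : ℕ) ≤ p - 1 by omega) with h4 | h4
      · omega
      · rw [h3, Nat.mod_self, Nat.mod_eq_of_lt h4] at h'; omega
      · rw [h4, Nat.mod_self, Nat.mod_eq_of_lt h3] at h'; omega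
      · rw [Nat.mod_eq_of_lt h4, Nat.mod_eq_of_lt h3] at h'; omega

section ext

variable {C : Type v} [CommRing C] [Algebra R C]

/-- The algebra map defined by a linear map on `I₁` respecting the relations. -/
def Good.extHom (G : Good R B u χ) (θ : OortTate.eigenAug R B p χ 1 →ₗ[R] C)
    (hθ : ∀ (f : Fin p → OortTate.eigenAug R B p χ 1) (g : OortTate.eigenAug R B p χ 1),
      (g : B) = ∏ i, (f i : B) → θ g = ∏ i, θ (f i)) : B →ₐ[R] C :=
  let F : RingHom.ker (pres R B χ).toRingHom ≤ RingHom.ker (TensorAlgebra.lift R θ).toRingHom := by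
    intro x hx
    have hx' : x ∈ Ideal.span (relSet R B χ) := G.ker_pres ▸ hx
    refine (Ideal.span_le.2 ?_ : Ideal.span (relSet R B χ) ≤ RingHom.ker (TensorAlgebra.lift R θ).toRingHom) hx'
    rintro _ ⟨f, g, hg, rfl⟩
    show TensorAlgebra.lift R θ _ = 0
    rw [map_sub, map_list_prod, List.map_ofFn, List.prod_ofFn, TensorAlgebra.lift_ι_apply, hθ f g hg]
    simp
  { RingHom.liftOfSurjective (pres R B χ).toRingHom G.pres_surjective
      ⟨(TensorAlgebra.lift R θ).toRingHom, F⟩ with
    commutes' := fun r => by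
      have h := RingHom.liftOfSurjective_comp_apply (pres R B χ).toRingHom G.pres_surjective
        ⟨(TensorAlgebra.lift R θ).toRingHom, F⟩ (algebraMap R _ r)
      simpa using h }

theorem Good.extHom_apply (G : Good R B u χ) (θ : OortTate.eigenAug R B p χ 1 →ₗ[R] C)
    (hθ : ∀ (f : Fin p → OortTate.eigenAug R B p χ 1) (g : OortTate.eigenAug R B p χ 1),
      (g : B) = ∏ i, (f i : B) → θ g = ∏ i, θ (f i)) (a : OortTate.eigenAug R B p χ 1) :
    G.extHom θ hθ (a : B) = θ a := by
  rw [← pres_ι a]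
  exact (RingHom.liftOfSurjective_comp_apply (pres R B χ).toRingHom G.pres_surjective _ _).trans
    (TensorAlgebra.lift_ι_apply θ a)

theorem Good.algHom_ext (G : Good R B u χ) {F F' : B →ₐ[R] C}
    (h : ∀ a : OortTate.eigenAug R B p χ 1, F (a : B) = F' (a : B)) : F = F' := by
  have h1 : F.comp (pres R B χ) = F'.comp (pres R B χ) :=
    TensorAlgebra.hom_ext (LinearMap.ext fun a => by simpa [pres_ι] using h a)
  refine AlgHom.ext fun b => ?_
  obtain ⟨x, rfl⟩ := G.pres_surjective b
  exact DFunLike.congr_fun h1 x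

end ext

/-- The structure holds for a group scheme of order `p`. -/
theorem good_of_rank [Module.Finite R B] [Module.Projective R B] (hu : u * ((p - 1 : ℕ) : R) = 1)
    (hχ : ∀ m : (ZMod p)ˣ, m ≠ 1 → IsUnit ((χ m : R) - 1))
    (hχp : ∀ m : (ZMod p)ˣ, ((χ m : Rˣ) : R) - (((m : ZMod p).val : ℕ) : R) ∈ Ideal.span ({(p : R)} : Set R))
    (hrk : ∀ q : PrimeSpectrum R, Module.rankAtStalk B q = p) : Good R B u χ := by
  haveI := HopfOrdLib.isCocomm_of_rankAtStalk hrk
  exact ⟨hu, hχ, hp_of_rank hrk, invertible_eigenAug hu hχ hχp hrk, fun t ht htp =>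
    (eigenAug_eq_pow hu hχp (hp_of_rank hrk) ht htp).1⟩

/-- The structure holds for the Cartier dual. -/
theorem good_dual_of_rank [Coalgebra.IsCocomm R B] [Module.Finite R B] [Module.Projective R B]
    (hu : u * ((p - 1 : ℕ) : R) = 1) (hχ : ∀ m : (ZMod p)ˣ, m ≠ 1 → IsUnit ((χ m : R) - 1))
    (hχp : ∀ m : (ZMod p)ˣ, ((χ m : Rˣ) : R) - (((m : ZMod p).val : ℕ) : R) ∈ Ideal.span ({(p : R)} : Set R))
    (hrk : ∀ q : PrimeSpectrum R, Module.rankAtStalk B q = p) : Good R (CartDual.D R B) u χ := by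
  have hp := hp_of_rank hrk
  refine ⟨hu, hχ, ?_, fun i => ?_, fun t ht htp => (eigenAug_eq_pow hu hχp hp ht htp).2⟩
  · refine WithConv.ext (AlgHom.ext fun x => WithConv.ext (LinearMap.ext fun b => ?_))
    show (SGA3b.powConv R (CartDual.D R B) p x).ofConv b = ((1 : WithConv (CartDual.D R B →ₐ[R] CartDual.D R B)) x).ofConv b
    rw [dual_powConv, SGA3b.powConv, hp]
    simp [AlgHom.convOne_def, Algebra.algebraMap_eq_smul_one, mul_comm]
  · haveI := invertible_eigenAug hu hχ hχp hrk i
    exact Module.Invertible.congr (resEquiv hu hp i).symm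

end OortTateLib
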