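import Groth.Agent.OortTateLib.Ygen
import Groth.Agent.HopfOrdLib.BaseChange
import Groth.Agent.HopfOrdLib.Closed
import Groth.Agent.HopfOrdLib.Cocomm
import Groth.Agent.HopfOrdLib.Deligne
import Mathlib.RingTheory.PicardGroup
import Mathlib.RingTheory.Spectrum.Prime.FreeLocus
import Mathlib.FieldTheory.IsAlgClosed.AlgebraicClosure

/-! The eigenspaces of the augmentation ideal of a group scheme of order `p` have rank one. -/

set_option autoImplicit false

noncomputable section

namespace OortTateLib

open TensorProduct WithConv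

universe u v

/-! ### invertible modules -/

theorem invertible_of_rankAtStalk_one {R : Type u} [CommRing R] {M : Type v} [AddCommGroup M] [Module R M]
    [Module.Finite R M] [Module.Projective R M]
    (h : ∀ q : PrimeSpectrum R, Module.rankAtStalk M q = 1) : Module.Invertible R M := by
  have key : ∀ (f : Module.Dual R M) (x y : M), f x • y = f y • x := by
    intro f x y
    rw [← sub_eq_zero]
    refine Module.eq_zero_of_localization_maximal (R := R) _
      (fun (P : Ideal R) (_ : P.IsMaximal) => TensorProduct.mk R (Localization.AtPrime P) M 1) _ fun P _ => ?_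
    let L := Localization.AtPrime P
    haveI : Module.Free L (L ⊗[R] M) := Module.free_of_flat_of_isLocalRing
    have hd : Module.finrank L (L ⊗[R] M) = 1 := by
      let q : PrimeSpectrum L := Classical.arbitrary _
      have h1 := congrFun (Module.rankAtStalk_eq_finrank_of_free (R := L) (M := L ⊗[R] M)) q
      rw [Module.rankAtStalk_baseChange, h] at h1
      simpa using h1.symm
    let b := Module.basisUnique Unit hd
    let F : Module.Dual L (L ⊗[R] M) := Module.Dual.baseChange L f
    have hFs : ∀ X Y : L ⊗[R] M, F X • Y = F Y • X := fun X Y => by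
      rw [← b.sum_repr X, ← b.sum_repr Y]
      simp only [Fintype.sum_unique, map_smul, smul_eq_mul, smul_smul]
      congr 1
      ring
    have hF : ∀ z : M, F ((1 : L) ⊗ₜ[R] z) = algebraMap R L (f z) := fun z => by
      simp [F, Algebra.smul_def]
    have := hFs ((1 : L) ⊗ₜ[R] x) ((1 : L) ⊗ₜ[R] y)
    rw [hF, hF, algebraMap_smul, algebraMap_smul] at this
    simp only [TensorProduct.mk_apply, tmul_sub, tmul_smul, this, sub_self]
  have hsurj : Function.Surjective (contractLeft R M) := by
    rw [← LinearMap.range_eq_top]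
    by_contra hne
    obtain ⟨P, hP, hle⟩ := Ideal.exists_le_maximal (LinearMap.range (contractLeft R M)) hne
    have hrk := h ⟨P, hP.isPrime⟩
    rw [Module.rankAtStalk_eq] at hrk
    haveI := Module.nontrivial_of_finrank_pos (R := P.ResidueField) (M := P.Fiber M) (by rw [hrk]; exact one_pos)
    obtain ⟨s, hs⟩ := Module.projective_def.1 ‹Module.Projective R M›
    refine not_subsingleton (P.Fiber M) (subsingleton_of_forall_eq 0 fun t => ?_)
    induction t using TensorProduct.induction_on with
    | zero => rfl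
    | add a b ha hb => rw [ha, hb, add_zero]
    | tmul c x =>
      rw [← hs x, Finsupp.linearCombination_apply, Finsupp.sum, tmul_sum]
      refine Finset.sum_eq_zero fun e _ => ?_
      have hmem : s x e ∈ P := hle ⟨(Finsupp.lapply e ∘ₗ s) ⊗ₜ x, by simp⟩
      rw [tmul_smul, smul_tmul', Algebra.smul_def, Ideal.algebraMap_residueField_eq_zero.2 hmem, zero_mul, zero_tmul]
  obtain ⟨t0, ht0⟩ := hsurj 1
  refine ⟨⟨(injective_iff_map_eq_zero _).2 fun t ht => ?_, hsurj⟩⟩
  suffices H : ∀ a b : Module.Dual R M ⊗[R] M, contractLeft R M a • b = contractLeft R M b • a by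
    simpa [ht0, ht] using H t0 t
  intro a b
  induction a using TensorProduct.induction_on with
  | zero => simp
  | add a a' ha ha' => simp only [map_add, add_smul, smul_add, ha, ha']
  | tmul g y =>
    induction b using TensorProduct.induction_on with
    | zero => simp
    | add b b' hb hb' => simp only [map_add, add_smul, smul_add, hb, hb']
    | tmul f x =>
      simp only [contractLeft_apply]
      have e1 : g y • f = f y • g := LinearMap.ext fun w => by
        simp only [LinearMap.smul_apply, smul_eq_mul]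
        have := congrArg f (key g y w)
        simp only [map_smul, smul_eq_mul] at this
        linear_combination this
      rw [smul_tmul', e1, ← smul_tmul', ← tmul_smul, ← tmul_smul, key f y x]

/-! ### fibres -/

section fibre

variable {p : ℕ} [Fact p.Prime]

theorem comp_powConv {R : Type u} [CommRing R] {A : Type u} [CommRing A] [HopfAlgebra R A] {C : Type v} [CommRing C]
    [Algebra R C] (h : A →ₐ[R] C) (n : ℕ) :
    toConv (h.comp (SGA3b.powConv R A n)) = toConv h ^ n := by
  induction n with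
  | zero =>
    rw [pow_zero, SGA3b.powConv, pow_zero, AlgHom.convOne_def, AlgHom.convOne_def, ofConv_toConv]
    congr 1
    exact AlgHom.ext fun a => h.commutes _
  | succ n IH =>
    rw [SGA3b.powConv, pow_succ, pow_succ, AlgHom.comp_convMul_distrib, ← SGA3b.powConv, IH, ofConv_toConv,
      AlgHom.comp_id]

variable {K : Type u} [Field K] [IsAlgClosed K] {B : Type u} [CommRing B] [HopfAlgebra K B] [Module.Finite K B]
  {u : K} {χ : (ZMod p)ˣ →* Kˣ}

theorem exists_mem_eigenAug_one_pow_ne_zero (hu : u * ((p - 1 : ℕ) : K) = 1)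
    (hχp : ∀ m : (ZMod p)ˣ, ((χ m : Kˣ) : K) - (((m : ZMod p).val : ℕ) : K) ∈ Ideal.span ({(p : K)} : Set K))
    (hp : (toConv (AlgHom.id K B)) ^ p = 1) (hd : Module.finrank K B = p) :
    ∃ y ∈ OortTate.eigenAug K B p χ 1, ∀ t, t < p → y ^ t ≠ 0 := by
  classical
  have hP : p.Prime := Fact.out
  rcases HopfOrdLib.dichotomy hd with ⟨g, hgp, hg⟩ | ⟨hchar, f, x, hf, hx, hfx⟩
  · let F : ZMod p → K := fun a => if h : a = 0 then 0 else (χ (Units.mk0 a h) : K)
    obtain ⟨y, hy⟩ := hg.2 fun i : Fin p => F (i : ℕ)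
    have hgn : ∀ n : ℕ, (g ^ n) y = F n := fun n => by
      have h1 : g ^ n = g ^ (n % p) := by
        conv_lhs => rw [← Nat.mod_add_div n p, pow_add, pow_mul, hgp, one_pow, mul_one]
      rw [h1, ← ZMod.natCast_mod n p]
      exact congrFun hy ⟨n % p, Nat.mod_lt _ hP.pos⟩
    refine ⟨y, mem_eigenAug.2 ⟨?_, fun m => ?_⟩, fun t _ h0 => ?_⟩
    · have h0 := hgn 0
      rw [pow_zero, AlgHom.convOne_apply, Nat.cast_zero] at h0
      exact h0.trans (dif_pos rfl)
    · refine hg.1 (funext fun i => ?_)
      show (g ^ (i : ℕ)) (SGA3b.powConv K B (m : ZMod p).val y) = (g ^ (i : ℕ)) ((χ m : K) ^ 1 • y)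
      have h1 := DFunLike.congr_fun (congrArg WithConv.ofConv (comp_powConv (g ^ (i : ℕ)).ofConv (m : ZMod p).val)) y
      rw [show (g ^ (i : ℕ)) ((χ m : K) ^ 1 • y) = (χ m : K) ^ 1 • (g ^ (i : ℕ)) y from map_smul (g ^ (i : ℕ)).ofConv _ y]
      refine h1.trans ?_
      rw [toConv_ofConv, ← pow_mul]
      show (g ^ ((i : ℕ) * (m : ZMod p).val)) y = _
      rw [hgn, hgn, Nat.cast_mul, ZMod.natCast_zmod_val, pow_one, smul_eq_mul]
      by_cases hi : ((i : ℕ) : ZMod p) = 0
      · simp [F, hi]
      · have hm : ((i : ℕ) : ZMod p) * (m : ZMod p) ≠ 0 := mul_ne_zero hi m.ne_zero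
        simp only [F, dif_neg hi, dif_neg hm, ← Units.val_mul, ← map_mul]
        congr 2
        exact Units.ext (mul_comm _ _)
    · have h1 : (g ^ 1) (y ^ t) = F 1 ^ t := by
        rw [show (g ^ 1) (y ^ t) = ((g ^ 1) y) ^ t from map_pow (g ^ 1).ofConv y t, hgn, Nat.cast_one]
      rw [h0, show (g ^ 1) (0 : B) = 0 from map_zero (g ^ 1).ofConv] at h1
      have hF : F 1 = 1 := by
        simp only [F, dif_neg one_ne_zero]
        rw [show Units.mk0 (1 : ZMod p) one_ne_zero = 1 from Units.ext rfl, map_one, Units.val_one]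
      rw [hF, one_pow] at h1
      exact zero_ne_one h1
  · have hpK : (p : K) = 0 := CharP.cast_eq_zero K p
    have hχm : ∀ m : (ZMod p)ˣ, (χ m : K) = ((m : ZMod p).val : K) := fun m => by
      have h1 := hχp m
      rwa [hpK, Ideal.mem_span_singleton, zero_dvd_iff, sub_eq_zero] at h1
    have hfpow : ∀ (n : ℕ) (a : B), f (SGA3b.powConv K B n a) = n * f a := by
      intro n
      induction n with
      | zero =>
        intro a
        have h1 : f 1 = 0 := by simpa using hf 1 1
        rw [SGA3b.powConv, pow_zero, Nat.cast_zero, zero_mul]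
        show f ((1 : WithConv (B →ₐ[K] B)) a) = 0
        rw [AlgHom.convOne_apply, Algebra.algebraMap_eq_smul_one, map_smul, h1, smul_zero]
      | succ n IH =>
        intro a
        have hh : ∀ s : B ⊗[K] B, f (LinearMap.mul' K B (TensorProduct.map (SGA3b.powConv K B n).toLinearMap
            (AlgHom.id K B).toLinearMap s)) =
            n * f (TensorProduct.rid K B ((Coalgebra.counit (R := K) (A := B)).lTensor B s)) +
              f (TensorProduct.lid K B ((Coalgebra.counit (R := K) (A := B)).rTensor B s)) := fun s => by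
          induction s using TensorProduct.induction_on with
          | zero => simp
          | add s s' hs hs' => simp only [map_add, hs, hs']; ring
          | tmul b c =>
            simp only [TensorProduct.map_tmul, LinearMap.mul'_apply, AlgHom.toLinearMap_apply, AlgHom.id_apply,
              LinearMap.lTensor_tmul, LinearMap.rTensor_tmul, TensorProduct.rid_tmul, TensorProduct.lid_tmul, map_smul,
              smul_eq_mul, hf, IH]
            rw [show Coalgebra.counit (R := K) (SGA3b.powConv K B n b) = Coalgebra.counit (R := K) b from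
              counit_powConv n b]
            ring
        rw [SGA3b.powConv, pow_succ, AlgHom.convMul_apply, lift_eq_mul', ofConv_toConv, ← SGA3b.powConv, hh,
          Coalgebra.lTensor_counit_comul, Coalgebra.rTensor_counit_comul]
        simp
        ring
    have hx' : Bialgebra.counitAlgHom K B x = 0 := hx
    refine ⟨OortTate.proj K B p u χ 1 x, proj_mem hp hx' 1, fun t ht h0 => ?_⟩
    set y := OortTate.proj K B p u χ 1 x with hy
    have hfy : f y = 1 := by
      have hterm : ∀ m : (ZMod p)ˣ, (χ m⁻¹ : K) * ((m : ZMod p).val : K) = 1 := fun m => by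
        rw [← hχm m]
        simpa using χ_inv_mul (χ := χ) m 1
      rw [hy, proj_apply]
      simp only [map_smul, map_sum, smul_eq_mul, hfpow, hfx, mul_one, pow_one, hterm, Finset.sum_const,
        Finset.card_univ, nsmul_eq_mul, u_card hu]
    have hcy : Coalgebra.counit (R := K) y = 0 := counit_proj hx' 1
    have h1 := HopfOrdLib.pow_toConv_apply_pow hf hcy hfy (le_refl t)
    rw [h0, map_zero, if_pos rfl] at h1
    exact absurd ((hP.dvd_factorial).1 ((CharP.cast_eq_zero_iff K p _).1 h1.symm)) (not_le.2 ht)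

theorem finrank_eigenAug (hu : u * ((p - 1 : ℕ) : K) = 1) (hχ : ∀ m : (ZMod p)ˣ, m ≠ 1 → IsUnit ((χ m : K) - 1))
    (hχp : ∀ m : (ZMod p)ˣ, ((χ m : Kˣ) : K) - (((m : ZMod p).val : ℕ) : K) ∈ Ideal.span ({(p : K)} : Set K))
    (hp : (toConv (AlgHom.id K B)) ^ p = 1) (hd : Module.finrank K B = p) (i : ℕ) :
    Module.finrank K (OortTate.eigenAug K B p χ i) = 1 := by
  classical
  have hP : p.Prime := Fact.out
  have h2p : 0 < p - 1 := by have := hP.two_le; omega
  obtain ⟨y, hy, hyne⟩ := exists_mem_eigenAug_one_pow_ne_zero hu hχp hp hd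
  obtain ⟨hind, -, hmap⟩ := decomposition hu hχ hp
  let k : Fin (p - 1) → ℕ := fun j => if (j : ℕ) = 0 then p - 1 else j
  have hk : ∀ j, 0 < k j ∧ k j < p ∧ k j % (p - 1) = (j : ℕ) := fun j => by
    have := j.2
    by_cases hj : (j : ℕ) = 0
    · simp only [k, hj, if_pos]
      exact ⟨h2p, by omega, Nat.mod_self _⟩
    · simp only [k, if_neg hj]
      exact ⟨by omega, by omega, Nat.mod_eq_of_lt j.2⟩
  let w : Fin (p - 1) → B := fun j => y ^ k j
  have hw : ∀ j : Fin (p - 1), w j ∈ OortTate.eigenAug K B p χ (j : ℕ) := fun j => by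
    have h1 := pow_mem_eigenAug hy (hk j).1
    rwa [eigenAug_mod, (hk j).2.2] at h1
  have hw0 : ∀ j, w j ≠ 0 := fun j => hyne _ (hk j).2.1
  have hli : LinearIndependent K w := hind.linearIndependent (p := fun j : Fin (p - 1) => OortTate.eigenAug K B p χ (j : ℕ)) hw hw0
  let ε := (Bialgebra.counitAlgHom K B).toLinearMap
  have hker : Module.finrank K (LinearMap.ker ε) = p - 1 := by
    have h := LinearMap.finrank_range_add_finrank_ker ε
    rw [LinearMap.range_eq_top.2 fun c => ⟨algebraMap K B c, by simp [ε]⟩, finrank_top, Module.finrank_self, hd] at h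
    omega
  have hspan : Submodule.span K (Set.range w) = LinearMap.ker ε := by
    refine Submodule.eq_of_le_of_finrank_eq (Submodule.span_le.2 ?_) ?_
    · rintro _ ⟨j, rfl⟩
      exact (mem_eigenAug.1 (hw j)).1
    · rw [finrank_span_eq_card hli, Fintype.card_fin, hker]
  rw [eigenAug_mod]
  set j : Fin (p - 1) := ⟨i % (p - 1), Nat.mod_lt _ h2p⟩
  have heq : OortTate.eigenAug K B p χ (j : ℕ) = Submodule.span K {w j} := by
    refine le_antisymm ?_ ((Submodule.span_singleton_le_iff_mem _ _).2 (hw j))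
    rw [hmap j, ← hspan, Submodule.map_span, Submodule.span_le]
    rintro _ ⟨_, ⟨l, rfl⟩, rfl⟩
    rw [SetLike.mem_coe, proj_of_mem hu hχ (hw l)]
    split_ifs with h
    · subst h; exact Submodule.mem_span_singleton_self _
    · exact zero_mem _
  show Module.finrank K (OortTate.eigenAug K B p χ (j : ℕ)) = 1
  rw [heq, finrank_span_singleton (hw0 j)]

end fibre

/-! ### the projection onto an eigenspace -/

section pr

variable {p : ℕ} [Fact p.Prime] {R : Type u} [CommRing R] (A : Type u) [CommRing A] [HopfAlgebra R A]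
  (u : R) (χ : (ZMod p)ˣ →* Rˣ)

/-- The projection of `A` onto the `i`-th eigenspace of the augmentation ideal. -/
def pr (i : ℕ) : A →ₗ[R] A :=
  OortTate.proj R A p u χ i ∘ₗ (LinearMap.id - (Bialgebra.counitAlgHom R A).toLinearMap.smulRight (1 : A))

variable {A u χ}

theorem pr_apply (i : ℕ) (a : A) :
    pr A u χ i a = OortTate.proj R A p u χ i (a - Bialgebra.counitAlgHom R A a • (1 : A)) := rfl

theorem pr_mem (hp : (toConv (AlgHom.id R A)) ^ p = 1) (i : ℕ) (a : A) :
    pr A u χ i a ∈ OortTate.eigenAug R A p χ i :=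
  proj_mem hp (by simp) i

theorem pr_eq_self (hu : u * ((p - 1 : ℕ) : R) = 1) {i : ℕ} {a : A} (ha : a ∈ OortTate.eigenAug R A p χ i) :
    pr A u χ i a = a := by
  rw [pr_apply, (mem_eigenAug.1 ha).1, zero_smul, sub_zero, proj_eq_self hu ha]

variable (u χ) in
/-- `pr` with values in the eigenspace. -/
def qr (hp : (toConv (AlgHom.id R A)) ^ p = 1) (i : ℕ) : A →ₗ[R] OortTate.eigenAug R A p χ i :=
  (pr A u χ i).codRestrict _ (pr_mem hp i)

theorem qr_coe (hu : u * ((p - 1 : ℕ) : R) = 1) (hp : (toConv (AlgHom.id R A)) ^ p = 1) (i : ℕ)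
    (a : OortTate.eigenAug R A p χ i) : qr u χ hp i (a : A) = a :=
  Subtype.ext (pr_eq_self hu a.2)

theorem finite_eigenAug [Module.Finite R A] (hu : u * ((p - 1 : ℕ) : R) = 1)
    (hp : (toConv (AlgHom.id R A)) ^ p = 1) (i : ℕ) : Module.Finite R (OortTate.eigenAug R A p χ i) :=
  Module.Finite.of_surjective (qr u χ hp i) fun a => ⟨a, qr_coe hu hp i a⟩

theorem projective_eigenAug [Module.Projective R A] (hu : u * ((p - 1 : ℕ) : R) = 1)
    (hp : (toConv (AlgHom.id R A)) ^ p = 1) (i : ℕ) : Module.Projective R (OortTate.eigenAug R A p χ i) :=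
  Module.Projective.of_split (OortTate.eigenAug R A p χ i).subtype (qr u χ hp i)
    (LinearMap.ext fun a => qr_coe hu hp i a)

variable (K : Type u) [CommRing K] [Algebra R K]

theorem powConv_bc (n : ℕ) (c : K) (a : A) :
    SGA3b.powConv K (K ⊗[R] A) n (c ⊗ₜ a) = c ⊗ₜ SGA3b.powConv R A n a := by
  show ((toConv (AlgHom.id K (K ⊗[R] A))) ^ n) (c ⊗ₜ a) = _
  rw [← HopfOrdLib.bc_id, ← HopfOrdLib.bc_pow]
  rfl

variable (χ) in
/-- The character after base change. -/
def χK : (ZMod p)ˣ →* Kˣ := (Units.map (algebraMap R K).toMonoidHom).comp χ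

theorem pr_bc (i : ℕ) : pr (K ⊗[R] A) (algebraMap R K u) (χK χ K) i = (pr A u χ i).baseChange K := by
  ext a
  show pr (K ⊗[R] A) (algebraMap R K u) (χK χ K) i ((1 : K) ⊗ₜ[R] a) = (pr A u χ i).baseChange K ((1 : K) ⊗ₜ[R] a)
  simp only [LinearMap.baseChange_tmul, pr_apply, proj_apply]
  have hc : Bialgebra.counitAlgHom K (K ⊗[R] A) ((1 : K) ⊗ₜ[R] a) = algebraMap R K (Bialgebra.counitAlgHom R A a) := by
    simp [Algebra.smul_def]
  rw [hc]
  simp only [algebraMap_smul]
  rw [Algebra.TensorProduct.one_def, ← tmul_smul (Bialgebra.counitAlgHom R A a), ← tmul_sub]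
  simp only [powConv_bc]
  rw [tmul_smul, tmul_sum]
  congr 1
  refine Finset.sum_congr rfl fun m _ => ?_
  rw [tmul_smul ((χ m⁻¹ : R) ^ i), ← algebraMap_smul K ((χ m⁻¹ : R) ^ i), map_pow]
  rfl

end pr

/-! ### rank one -/

section rank

variable {p : ℕ} [Fact p.Prime] {R : Type u} [CommRing R] {A : Type u} [CommRing A] [HopfAlgebra R A]
  {u : R} {χ : (ZMod p)ˣ →* Rˣ}

theorem hp_of_rank [Module.Finite R A] [Module.Projective R A]
    (hrk : ∀ q : PrimeSpectrum R, Module.rankAtStalk A q = p) : (toConv (AlgHom.id R A)) ^ p = 1 := by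
  haveI := HopfOrdLib.isCocomm_of_rankAtStalk hrk
  exact HopfOrdLib.convPow_id_eq_one hrk

theorem rankAtStalk_eigenAug [Module.Finite R A] [Module.Projective R A] (hu : u * ((p - 1 : ℕ) : R) = 1)
    (hχ : ∀ m : (ZMod p)ˣ, m ≠ 1 → IsUnit ((χ m : R) - 1))
    (hχp : ∀ m : (ZMod p)ˣ, ((χ m : Rˣ) : R) - (((m : ZMod p).val : ℕ) : R) ∈ Ideal.span ({(p : R)} : Set R))
    (hrk : ∀ q : PrimeSpectrum R, Module.rankAtStalk A q = p) (i : ℕ) (q : PrimeSpectrum R) :
    Module.rankAtStalk (OortTate.eigenAug R A p χ i) q = 1 := by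
  have hp := hp_of_rank hrk
  haveI := finite_eigenAug (χ := χ) hu hp i
  haveI := projective_eigenAug (χ := χ) hu hp i
  let K := AlgebraicClosure q.asIdeal.ResidueField
  let P : PrimeSpectrum K := ⟨⊥, Ideal.isPrime_bot⟩
  have hP : P.comap (algebraMap R K) = q := by
    ext a
    show algebraMap R K a ∈ (⊥ : Ideal K) ↔ a ∈ q.asIdeal
    rw [Ideal.mem_bot, IsScalarTower.algebraMap_apply R q.asIdeal.ResidueField K,
      map_eq_zero_iff _ (algebraMap q.asIdeal.ResidueField K).injective, Ideal.algebraMap_residueField_eq_zero]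
  have hfr : ∀ (M : Type u) [AddCommGroup M] [Module R M] [Module.Finite R M] [Module.Projective R M],
      Module.finrank K (K ⊗[R] M) = Module.rankAtStalk M q := fun M _ _ _ _ => by
    have h1 := congrFun (Module.rankAtStalk_eq_finrank_of_free (R := K) (M := K ⊗[R] M)) P
    rw [Module.rankAtStalk_baseChange, hP] at h1
    simpa using h1.symm
  have hdK : Module.finrank K (K ⊗[R] A) = p := (hfr A).trans (hrk q)
  have hrkK : ∀ P' : PrimeSpectrum K, Module.rankAtStalk (K ⊗[R] A) P' = p := fun P' => by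
    rw [Module.rankAtStalk_baseChange, hrk]
  have hpK := hp_of_rank hrkK
  set u' := algebraMap R K u
  have hu' : u' * ((p - 1 : ℕ) : K) = 1 := by rw [← map_natCast (algebraMap R K), ← map_mul, hu, map_one]
  have hχ' : ∀ m : (ZMod p)ˣ, m ≠ 1 → IsUnit ((χK χ K m : K) - 1) := fun m hm => by
    have := (hχ m hm).map (algebraMap R K)
    rwa [map_sub, map_one] at this
  have hχp' : ∀ m : (ZMod p)ˣ, ((χK χ K m : Kˣ) : K) - (((m : ZMod p).val : ℕ) : K) ∈
      Ideal.span ({(p : K)} : Set K) := fun m => by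
    have h2 := Ideal.mem_map_of_mem (algebraMap R K) (hχp m)
    simp only [Ideal.map_span, Set.image_singleton, map_sub, map_natCast] at h2
    exact h2
  rw [← hfr (OortTate.eigenAug R A p χ i), ← finrank_eigenAug hu' hχ' hχp' hpK hdK i]
  let S := (OortTate.eigenAug R A p χ i).subtype.baseChange K
  let Q := (qr u χ hp i).baseChange K
  have hQS : Function.LeftInverse Q S := fun z => by
    have h1 : (qr u χ hp i) ∘ₗ (OortTate.eigenAug R A p χ i).subtype = LinearMap.id :=
      LinearMap.ext fun a => qr_coe hu hp i a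
    have h2 := LinearMap.congr_fun (congrArg (LinearMap.baseChange K) h1) z
    rwa [LinearMap.baseChange_comp, LinearMap.baseChange_id] at h2
  have hSQ : S ∘ₗ Q = pr (K ⊗[R] A) u' (χK χ K) i := by
    rw [pr_bc, ← LinearMap.baseChange_comp]
    rfl
  have hrange : LinearMap.range S = OortTate.eigenAug K (K ⊗[R] A) p (χK χ K) i := by
    refine le_antisymm ?_ fun z hz => ⟨Q z, ?_⟩
    · rintro _ ⟨z, rfl⟩
      rw [← hQS z, ← LinearMap.comp_apply, hSQ]
      exact pr_mem hpK i _
    · rw [← LinearMap.comp_apply, hSQ]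
      exact pr_eq_self hu' hz
  exact ((LinearEquiv.ofInjective S hQS.injective).trans (LinearEquiv.ofEq _ _ hrange)).finrank_eq

theorem invertible_eigenAug [Module.Finite R A] [Module.Projective R A] (hu : u * ((p - 1 : ℕ) : R) = 1)
    (hχ : ∀ m : (ZMod p)ˣ, m ≠ 1 → IsUnit ((χ m : R) - 1))
    (hχp : ∀ m : (ZMod p)ˣ, ((χ m : Rˣ) : R) - (((m : ZMod p).val : ℕ) : R) ∈ Ideal.span ({(p : R)} : Set R))
    (hrk : ∀ q : PrimeSpectrum R, Module.rankAtStalk A q = p) (i : ℕ) :
    Module.Invertible R (OortTate.eigenAug R A p χ i) := by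
  haveI := finite_eigenAug (χ := χ) hu (hp_of_rank hrk) i
  haveI := projective_eigenAug (χ := χ) hu (hp_of_rank hrk) i
  exact invertible_of_rankAtStalk_one (rankAtStalk_eigenAug hu hχ hχp hrk i)

end rank

end OortTateLib
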