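import Groth.Agent.OortTateLib.Eigen
import Mathlib.Data.Nat.Choose.Dvd
import Mathlib.RepresentationTheory.Maschke
import Mathlib.RingTheory.Jacobson.Semiprimary

/-! The elements `y_i` in the Hopf algebra of `μ_p`. -/

set_option autoImplicit false

namespace OortTateLib

open scoped TensorProduct
open WithConv

universe u

variable {p : ℕ} [Fact p.Prime] {R : Type u} [CommRing R] {u : R} {χ : (ZMod p)ˣ →* Rˣ}

local notation "G" => Multiplicative (ZMod p)
local notation "T" => OortTate.muT R p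

theorem powConv_of (n : ℕ) (g : G) :
    SGA3b.powConv R (MonoidAlgebra R G) n (MonoidAlgebra.of R G g) = MonoidAlgebra.of R G (g ^ n) := by
  induction n with
  | zero => simp [SGA3b.powConv, AlgHom.convOne_def, MonoidAlgebra.one_def]
  | succ n IH =>
    rw [SGA3b.powConv, pow_succ, AlgHom.convMul_apply, lift_eq_mul', ofConv_toConv]
    rw [show Coalgebra.comul (R := R) (MonoidAlgebra.of R G g) =
        MonoidAlgebra.of R G g ⊗ₜ[R] MonoidAlgebra.of R G g from by simp]
    simp only [TensorProduct.map_tmul, LinearMap.mul'_apply, AlgHom.toLinearMap_apply, AlgHom.id_apply]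
    rw [SGA3b.powConv] at IH
    rw [IH, ← map_mul, pow_succ]

theorem hp_mu : (toConv (AlgHom.id R (MonoidAlgebra R G))) ^ p = 1 := by
  apply WithConv.ext
  apply MonoidAlgebra.algHom_ext
  intro g
  have h : g ^ p = 1 := by
    refine Multiplicative.toAdd.injective ?_
    rw [toAdd_pow, nsmul_eq_mul, ZMod.natCast_self, zero_mul, toAdd_one]
  have h1 := powConv_of (R := R) p g
  rw [h] at h1
  · simpa [SGA3b.powConv, AlgHom.convOne_def, MonoidAlgebra.one_def] using h1
  · exact Subsingleton.elim (α := R →ₐ[R] _) _ _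

theorem of_eq (g : G) : MonoidAlgebra.of R G g = MonoidAlgebra.of R G (Multiplicative.ofAdd (g.toAdd)) := rfl

theorem powConv_T (m : ℕ) : SGA3b.powConv R (MonoidAlgebra R G) m (T - 1) =
    MonoidAlgebra.of R G (Multiplicative.ofAdd (m : ZMod p)) - 1 := by
  rw [map_sub, map_one, OortTate.muT, powConv_of, ← ofAdd_nsmul, nsmul_eq_mul, mul_one]

theorem ygen_eq (i : ℕ) : OortTate.ygen R p u χ i =
    u • ∑ m : (ZMod p)ˣ, (χ m⁻¹ : R) ^ i • (MonoidAlgebra.of R G (Multiplicative.ofAdd (m : ZMod p)) - 1) := by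
  rw [OortTate.ygen, proj_apply]
  simp only [powConv_T, ZMod.natCast_zmod_val]

theorem counit_of_sub_one (g : G) :
    Bialgebra.counitAlgHom R (MonoidAlgebra R G) (MonoidAlgebra.of R G g - 1) = 0 := by
  simp [MonoidAlgebra.one_def]

theorem ygen_mem (i : ℕ) : OortTate.ygen R p u χ i ∈ OortTate.eigenAug R (MonoidAlgebra R G) p χ i :=
  proj_mem hp_mu (counit_of_sub_one _) i

theorem ker_counit_le_span :
    LinearMap.ker (Bialgebra.counitAlgHom R (MonoidAlgebra R G)).toLinearMap ≤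
      Submodule.span R (Set.range fun m : (ZMod p)ˣ => MonoidAlgebra.of R G (Multiplicative.ofAdd (m : ZMod p)) - 1) := by
  intro f hf
  have key : ∀ f : MonoidAlgebra R G, f - Bialgebra.counitAlgHom R (MonoidAlgebra R G) f • 1 ∈
      Submodule.span R (Set.range fun m : (ZMod p)ˣ => MonoidAlgebra.of R G (Multiplicative.ofAdd (m : ZMod p)) - 1) := by
    intro f
    induction f using MonoidAlgebra.induction_on with
    | of g =>
      rw [show Bialgebra.counitAlgHom R (MonoidAlgebra R G) (MonoidAlgebra.of R G g) = 1 by simp, one_smul]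
      by_cases hg : g.toAdd = 0
      · rw [show g = 1 from hg, map_one, sub_self]; exact zero_mem _
      · exact Submodule.subset_span ⟨Units.mk0 _ hg, rfl⟩
    | add a b ha hb =>
      rw [map_add, add_smul, add_sub_add_comm]
      exact add_mem ha hb
    | smul r a ha =>
      rw [map_smul, smul_eq_mul, mul_smul, ← smul_sub]
      exact Submodule.smul_mem _ _ ha
  simpa [show Bialgebra.counitAlgHom R (MonoidAlgebra R G) f = 0 from hf] using key f

theorem eigen_le_span (hu : u * ((p - 1 : ℕ) : R) = 1) (i : ℕ) :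
    OortTate.eigenAug R (MonoidAlgebra R G) p χ i ≤ Submodule.span R {OortTate.ygen R p u χ i} := by
  intro f hf
  rw [← proj_eq_self hu hf]
  have h : Submodule.map (OortTate.proj R (MonoidAlgebra R G) p u χ i)
      (Submodule.span R (Set.range fun m : (ZMod p)ˣ => MonoidAlgebra.of R G (Multiplicative.ofAdd (m : ZMod p)) - 1)) ≤
        Submodule.span R {OortTate.ygen R p u χ i} := by
    rw [Submodule.map_span, Submodule.span_le]
    rintro _ ⟨_, ⟨m, rfl⟩, rfl⟩
    rw [SetLike.mem_coe]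
    have h2 := proj_powConv (u := u) (χ := χ) (hp_mu (p := p) (R := R)) i m (T - 1)
    rw [powConv_T, ZMod.natCast_zmod_val] at h2
    rw [h2]
    exact Submodule.smul_mem _ _ (Submodule.mem_span_singleton_self _)
  exact h ⟨f, ker_counit_le_span (mem_eigenAug.1 hf).1, rfl⟩

theorem coeff_ygen (i : ℕ) (m : (ZMod p)ˣ) :
    MonoidAlgebra.coeff (OortTate.ygen R p u χ i) (Multiplicative.ofAdd (m : ZMod p)) = u * (χ m⁻¹ : R) ^ i := by
  rw [ygen_eq]
  have hne : Multiplicative.ofAdd (m : ZMod p) ≠ 1 := fun h => m.ne_zero h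
  simp only [MonoidAlgebra.coeff_smul, MonoidAlgebra.coeff_sum, Finsupp.smul_apply, Finsupp.finsetSum_apply,
    MonoidAlgebra.coeff_sub, Finsupp.sub_apply, MonoidAlgebra.of_apply, MonoidAlgebra.one_def,
    MonoidAlgebra.coeff_single, Finsupp.single_apply, smul_eq_mul]
  rw [Finset.sum_eq_single m]
  · simp [hne.symm]
  · intro b _ hb
    rw [if_neg (fun h => hb (Units.ext (Multiplicative.ofAdd.injective h))), if_neg hne.symm]
    simp
  · simp

theorem linearIndependent_ygen (hu : u * ((p - 1 : ℕ) : R) = 1)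
    (hχ : ∀ m : (ZMod p)ˣ, m ≠ 1 → IsUnit ((χ m : R) - 1)) :
    LinearIndependent R (fun i : Fin (p - 1) => OortTate.ygen R p u χ (i : ℕ)) := by
  rw [Fintype.linearIndependent_iff]
  intro g hg j
  have h1 : ∀ m : (ZMod p)ˣ, ∑ i : Fin (p - 1), g i * (u * (χ m⁻¹ : R) ^ (i : ℕ)) = 0 := fun m => by
    have h := congrArg (fun a => MonoidAlgebra.coeff a (Multiplicative.ofAdd (m : ZMod p))) hg
    simp only [MonoidAlgebra.coeff_sum, Finsupp.finsetSum_apply, MonoidAlgebra.coeff_smul, Finsupp.smul_apply,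
      smul_eq_mul, coeff_ygen] at h
    simpa using h
  have h2 : ∑ i : Fin (p - 1), g i * (u * ∑ m : (ZMod p)ˣ, (χ m⁻¹ : R) ^ (i : ℕ) * (χ m : R) ^ (j : ℕ)) = 0 := by
    calc _ = ∑ m : (ZMod p)ˣ, (χ m : R) ^ (j : ℕ) * ∑ i : Fin (p - 1), g i * (u * (χ m⁻¹ : R) ^ (i : ℕ)) := by
          simp only [Finset.mul_sum]
          rw [Finset.sum_comm]
          exact Finset.sum_congr rfl fun m _ => Finset.sum_congr rfl fun i _ => by ring
      _ = 0 := by simp only [h1, mul_zero, Finset.sum_const_zero]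
  simp only [u_sum_inv_mul hu hχ, mul_ite, mul_one, mul_zero, Finset.sum_ite_eq', Finset.mem_univ, if_true] at h2
  exact h2

theorem pow_mem_eigenAug {A : Type u} [CommRing A] [HopfAlgebra R A] {f : A}
    (hf : f ∈ OortTate.eigenAug R A p χ 1) {i : ℕ} (hi : 0 < i) : f ^ i ∈ OortTate.eigenAug R A p χ i := by
  obtain ⟨h0, hm⟩ := mem_eigenAug.1 hf
  refine mem_eigenAug.2 ⟨by rw [map_pow, h0, zero_pow hi.ne'], fun m => ?_⟩
  rw [map_pow, hm m, pow_one, smul_pow]

theorem eigenAug_mod (i : ℕ) {A : Type u} [CommRing A] [HopfAlgebra R A] :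
    OortTate.eigenAug R A p χ i = OortTate.eigenAug R A p χ (i % (p - 1)) := by
  ext f
  simp only [mem_eigenAug]
  refine and_congr_right fun _ => forall_congr' fun m => ?_
  have hp1 : (χ m : R) ^ (p - 1) = 1 := by
    rw [← Units.val_pow_eq_pow_val, ← map_pow, ← ZMod.card_units p, pow_card_eq_one, map_one, Units.val_one]
  conv_lhs => rw [← Nat.mod_add_div i (p - 1), pow_add, pow_mul, hp1, one_pow, mul_one]

theorem pow_ne_zero_field {K : Type u} [Field K] {u : K} {χ : (ZMod p)ˣ →* Kˣ}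
    (hu : u * ((p - 1 : ℕ) : K) = 1)
    (hχp : ∀ m : (ZMod p)ˣ, ((χ m : Kˣ) : K) - (((m : ZMod p).val : ℕ) : K) ∈ Ideal.span ({(p : K)} : Set K))
    {i : ℕ} (hi : i < p) :
    (u • ∑ m : (ZMod p)ˣ, (χ m⁻¹ : K) • (MonoidAlgebra.of K G (Multiplicative.ofAdd (m : ZMod p)) - 1)) ^ i ≠ 0 := by
  have hp := (Fact.out : p.Prime)
  set y := u • ∑ m : (ZMod p)ˣ, (χ m⁻¹ : K) • (MonoidAlgebra.of K G (Multiplicative.ofAdd (m : ZMod p)) - 1) with hy
  have hu0 : u ≠ 0 := left_ne_zero_of_mul_eq_one hu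
  by_cases hpK : (p : K) = 0
  · -- characteristic `p`
    have hchar : CharP K p := (CharP.charP_iff_prime_eq_zero hp).2 hpK
    set J : Ideal (Polynomial K) := Ideal.span {(Polynomial.X : Polynomial K) ^ p} with hJ
    have hone : ((1 + Polynomial.X : Polynomial K)) ^ p - 1 ∈ J := by
      rw [add_pow_char, one_pow, add_sub_cancel_left]; exact Ideal.mem_span_singleton_self _
    have hper : ∀ a b : ℕ, (a : ZMod p) = b →
        Ideal.Quotient.mk J ((1 + Polynomial.X) ^ a) = Ideal.Quotient.mk J ((1 + Polynomial.X) ^ b) := by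
      intro a b hab
      have key : ∀ a, Ideal.Quotient.mk J ((1 + Polynomial.X) ^ a) =
          Ideal.Quotient.mk J ((1 + Polynomial.X) ^ (a % p)) := fun a => by
        conv_lhs => rw [← Nat.mod_add_div a p, pow_add, pow_mul, map_mul, map_pow _ ((1 + Polynomial.X) ^ p),
          (Ideal.Quotient.mk_eq_mk_iff_sub_mem _ 1).2 hone, map_one, one_pow, mul_one]
      rw [key a, key b, (ZMod.natCast_eq_natCast_iff' a b p).1 hab]
    let h : G →* Polynomial K ⧸ J :=
      { toFun := fun g => Ideal.Quotient.mk J ((1 + Polynomial.X) ^ g.toAdd.val)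
        map_one' := by simp
        map_mul' := fun a b => by
          rw [← map_mul, ← pow_add]
          exact hper _ _ (by simp [ZMod.natCast_zmod_val]) }
    let Φ := MonoidAlgebra.lift K (Polynomial K ⧸ J) G h
    set P : Polynomial K := Polynomial.C u * ∑ m : (ZMod p)ˣ, Polynomial.C (χ m⁻¹ : K) *
      ((1 + Polynomial.X) ^ (m : ZMod p).val - 1) with hP
    have hΦ : Φ y = Ideal.Quotient.mk J P := by
      show Φ y = Ideal.Quotient.mkₐ K J P
      simp only [hy, hP, ← Polynomial.smul_eq_C_mul, map_smul, map_sum, map_sub, map_one, Φ, MonoidAlgebra.lift_of]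
      rfl
    have hP0 : P.coeff 0 = 0 := by
      simp [hP, Polynomial.finsetSum_coeff, Polynomial.coeff_one_add_X_pow]
    have hP1 : P.coeff 1 = 1 := by
      simp only [hP, Polynomial.coeff_C_mul, Polynomial.finsetSum_coeff, Polynomial.coeff_sub,
        Polynomial.coeff_one_add_X_pow, Nat.choose_one_right, Polynomial.coeff_one, one_ne_zero, if_false, sub_zero]
      have hterm : ∀ m : (ZMod p)ˣ, (χ m⁻¹ : K) * ((m : ZMod p).val : K) = 1 := fun m => by
        have h1 := hχp m
        rw [hpK, Ideal.mem_span_singleton, zero_dvd_iff, sub_eq_zero] at h1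
        rw [← h1]
        simpa using χ_inv_mul (χ := χ) m 1
      simp only [hterm, Finset.sum_const, Finset.card_univ, nsmul_eq_mul, mul_one]
      exact u_card hu
    intro h0
    have h1 := congrArg Φ h0
    rw [map_pow, hΦ, map_zero, ← map_pow, Ideal.Quotient.eq_zero_iff_mem, hJ, Ideal.mem_span_singleton] at h1
    obtain ⟨Q, hQ⟩ := Polynomial.X_dvd_iff.2 hP0
    have hQ0 : Q.coeff 0 = 1 := by rw [← hP1, hQ, Polynomial.coeff_X_mul]
    rw [hQ, mul_pow, show p = i + (p - i) by omega, pow_add,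
      mul_dvd_mul_iff_left (pow_ne_zero _ Polynomial.X_ne_zero)] at h1
    have h2 : (Polynomial.X : Polynomial K) ∣ Q ^ i := (dvd_pow_self _ (by omega)).trans h1
    rw [Polynomial.X_dvd_iff, Polynomial.coeff_zero_eq_eval_zero, Polynomial.eval_pow,
      ← Polynomial.coeff_zero_eq_eval_zero, hQ0, one_pow] at h2
    exact one_ne_zero h2
  · haveI : NeZero (Nat.card G : K) := ⟨by rwa [Nat.card_eq_fintype_card, Fintype.card_multiplicative, ZMod.card]⟩
    have : IsSemisimpleRing (MonoidAlgebra K G) := inferInstance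
    have : IsReduced (MonoidAlgebra K G) := inferInstance
    intro h0
    have hy0 : y = 0 := IsReduced.eq_zero _ ⟨i, h0⟩
    have h1 := congrArg (fun a => MonoidAlgebra.coeff a (Multiplicative.ofAdd ((1 : (ZMod p)ˣ) : ZMod p))) hy0
    have h2 := coeff_ygen (R := K) (u := u) (χ := χ) 1 (1 : (ZMod p)ˣ)
    simp only [ygen_eq, pow_one, ← hy] at h2
    simp only [h2] at h1
    simp [hu0] at h1

theorem isUnit_of_pow_eq (hu : u * ((p - 1 : ℕ) : R) = 1)
    (hχp : ∀ m : (ZMod p)ˣ, ((χ m : Rˣ) : R) - (((m : ZMod p).val : ℕ) : R) ∈ Ideal.span ({(p : R)} : Set R))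
    {i j : ℕ} (hi : i < p) {w : R} (h : OortTate.ygen R p u χ 1 ^ i = w • OortTate.ygen R p u χ j) : IsUnit w := by
  by_contra hw
  obtain ⟨M, hM, hwM⟩ := exists_max_ideal_of_mem_nonunits hw
  letI := Ideal.Quotient.field M
  let q := Ideal.Quotient.mk M
  let Φ := MonoidAlgebra.mapRingHom G q
  have h1 := congrArg Φ h
  rw [Algebra.smul_def, map_pow, map_mul,
    show Φ (algebraMap R (MonoidAlgebra R G) w) = 0 by
      simp [Φ, MonoidAlgebra.coe_algebraMap, q, Ideal.Quotient.eq_zero_iff_mem.2 hwM], zero_mul] at h1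
  let χ' : (ZMod p)ˣ →* (R ⧸ M)ˣ := (Units.map q.toMonoidHom).comp χ
  have hu' : q u * ((p - 1 : ℕ) : R ⧸ M) = 1 := by rw [← map_natCast q, ← map_mul, hu, map_one]
  have hχp' : ∀ m : (ZMod p)ˣ, ((χ' m : (R ⧸ M)ˣ) : R ⧸ M) - (((m : ZMod p).val : ℕ) : R ⧸ M) ∈
      Ideal.span ({(p : R ⧸ M)} : Set (R ⧸ M)) := fun m => by
    have h2 := Ideal.mem_map_of_mem q (hχp m)
    simp only [Ideal.map_span, Set.image_singleton, map_sub, map_natCast] at h2
    exact h2
  refine pow_ne_zero_field (p := p) hu' hχp' hi (Eq.trans ?_ h1)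
  congr 1
  rw [ygen_eq]
  simp only [pow_one, Algebra.smul_def, map_mul, map_sum, map_sub, map_one]
  simp [Φ, χ', MonoidAlgebra.coe_algebraMap, q]

theorem ygen_structure (hu : u * ((p - 1 : ℕ) : R) = 1) (hχ : ∀ m : (ZMod p)ˣ, m ≠ 1 → IsUnit ((χ m : R) - 1))
    (hχp : ∀ m : (ZMod p)ˣ, ((χ m : Rˣ) : R) - (((m : ZMod p).val : ℕ) : R) ∈ Ideal.span ({(p : R)} : Set R)) :
    LinearIndependent R (fun i : Fin (p - 1) => OortTate.ygen R p u χ (i : ℕ)) ∧
      Submodule.span R (Set.range (fun i : Fin (p - 1) => OortTate.ygen R p u χ (i : ℕ))) =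
        LinearMap.ker (Bialgebra.counitAlgHom R (MonoidAlgebra R G)).toLinearMap ∧
      Algebra.adjoin R ({OortTate.ygen R p u χ 1} : Set (MonoidAlgebra R G)) = ⊤ ∧
      ∃! w : R, OortTate.ygen R p u χ 1 ^ p = w • OortTate.ygen R p u χ 1 := by
  have hp := (Fact.out : p.Prime)
  have h2p : 0 < p - 1 := by have := hp.two_le; omega
  obtain ⟨-, hsup, -⟩ := decomposition hu hχ (hp_mu (p := p) (R := R))
  have hspan : Submodule.span R (Set.range (fun i : Fin (p - 1) => OortTate.ygen R p u χ (i : ℕ))) =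
      LinearMap.ker (Bialgebra.counitAlgHom R (MonoidAlgebra R G)).toLinearMap := by
    refine le_antisymm (Submodule.span_le.2 ?_) ?_
    · rintro _ ⟨i, rfl⟩
      exact (mem_eigenAug.1 (ygen_mem (i : ℕ))).1
    · rw [← hsup]
      exact iSup_le fun i => (eigen_le_span hu (i : ℕ)).trans
        (Submodule.span_mono (Set.singleton_subset_iff.2 ⟨i, rfl⟩))
  refine ⟨linearIndependent_ygen hu hχ, hspan, ?_, ?_⟩
  · set S := Algebra.adjoin R ({OortTate.ygen R p u χ 1} : Set (MonoidAlgebra R G))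
    have hy : ∀ i : Fin (p - 1), OortTate.ygen R p u χ (i : ℕ) ∈ S := fun i => by
      obtain ⟨k, hk, hkp, hkmod⟩ : ∃ k, 0 < k ∧ k < p ∧ k % (p - 1) = (i : ℕ) := by
        rcases Nat.eq_zero_or_pos (i : ℕ) with h | h
        · exact ⟨p - 1, h2p, by omega, by rw [Nat.mod_self, h]⟩
        · exact ⟨i, h, by have := i.2; omega, Nat.mod_eq_of_lt i.2⟩
      have hmem : OortTate.ygen R p u χ 1 ^ k ∈ Submodule.span R {OortTate.ygen R p u χ (i : ℕ)} :=
        eigen_le_span hu _ (by rw [← hkmod, ← eigenAug_mod]; exact pow_mem_eigenAug (ygen_mem 1) hk)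
      obtain ⟨w, hw⟩ := Submodule.mem_span_singleton.1 hmem
      obtain ⟨v, rfl⟩ := isUnit_of_pow_eq hu hχp hkp hw.symm
      rw [show OortTate.ygen R p u χ (i : ℕ) = ((v⁻¹ : Rˣ) : R) • OortTate.ygen R p u χ 1 ^ k by
        rw [← hw, smul_smul, Units.inv_mul, one_smul]]
      exact S.smul_mem (S.pow_mem (Algebra.subset_adjoin (Set.mem_singleton _)) k) _
    refine eq_top_iff.2 fun f _ => ?_
    have hle : LinearMap.ker (Bialgebra.counitAlgHom R (MonoidAlgebra R G)).toLinearMap ≤ S.toSubmodule := by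
      rw [← hspan, Submodule.span_le]; rintro _ ⟨i, rfl⟩; exact hy i
    have h1 : f - algebraMap R (MonoidAlgebra R G) (Bialgebra.counitAlgHom R _ f) ∈ S := hle (by
      rw [LinearMap.mem_ker, AlgHom.toLinearMap_apply, map_sub, AlgHom.commutes]
      exact sub_self _)
    simpa using S.add_mem h1 (S.algebraMap_mem (Bialgebra.counitAlgHom R _ f))
  · have hmem : OortTate.ygen R p u χ 1 ^ p ∈ Submodule.span R {OortTate.ygen R p u χ 1} :=
      eigen_le_span hu _ (by
        rw [eigenAug_mod, show 1 % (p - 1) = p % (p - 1) by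
          rw [← Nat.add_mod_right 1 (p - 1), show 1 + (p - 1) = p by omega], ← eigenAug_mod]
        exact pow_mem_eigenAug (ygen_mem 1) hp.pos)
    obtain ⟨w, hw⟩ := Submodule.mem_span_singleton.1 hmem
    refine ⟨w, hw.symm, fun w' hw' => ?_⟩
    have hli := linearIndependent_ygen (u := u) (χ := χ) hu hχ
    rw [hw', ← sub_eq_zero, ← sub_smul] at hw
    have hy1 : OortTate.ygen R p u χ 1 = OortTate.ygen R p u χ (1 % (p - 1)) := by
      simp only [ygen_eq]
      congr 1
      refine Finset.sum_congr rfl fun m _ => ?_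
      congr 1
      have hp1 : (χ m⁻¹ : R) ^ (p - 1) = 1 := by
        rw [← Units.val_pow_eq_pow_val, ← map_pow, ← ZMod.card_units p, pow_card_eq_one, map_one, Units.val_one]
      conv_lhs => rw [← Nat.mod_add_div 1 (p - 1), pow_add, pow_mul, hp1, one_pow, mul_one]
    rw [hy1] at hw
    have h := Fintype.linearIndependent_iff.1 hli (Pi.single ⟨1 % (p - 1), Nat.mod_lt _ h2p⟩ (w - w'))
      (by simpa [Pi.single_apply, ite_smul] using hw) ⟨1 % (p - 1), Nat.mod_lt _ h2p⟩
    simpa [sub_eq_zero, eq_comm] using h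

end OortTateLib
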